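import Cfsg.Agent.Lib.LargeFischer.Prime.Start
import Cfsg.Agent.Lib.LargeFischer.Ext.Lift
import Cfsg.Agent.Lib.LargeFischer.Ext.Whole
import Cfsg.Agent.Lib.ThreeTransp.M24Invol

/-!
# A homomorphism from `Fi24'` extending the starting model is bijective
-/

set_option autoImplicit false
set_option maxRecDepth 100000
set_option maxHeartbeats 1000000
set_option linter.style.haveILetI false
set_option linter.unusedSectionVars false

namespace CfsgLib.LargeFischer.Prime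

open CfsgLib.PresCert CfsgLib.Fi24P CfsgLib.Fi24P.ThreeT Subgroup
open CfsgLib.ThreeTransp (link)

attribute [local irreducible] relShort Fi23P.relShort Fi23P.levels Fi23P.wordA Fi23P.baseL

theorem bijective {G : Type*} [Group G] [Finite G] {z : G} (Q : Subgroup (centralizer ({z} : Set G))) [Q.Normal]
    (hF : Cfsg.IsOfLargeFischerTypeAt z Q) (S : Start z) (Φ : ↥comG →* G)
    (hΦ : ∀ m : ↥centJ, Φ (psiCom (m : Cfsg.Spor.Fi23)) = S.θ m) : Function.Bijective Φ := by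
  classical
  haveI := finite24
  haveI := com_simple
  haveI := Fi23P.card_fi.1
  have hinj : Function.Injective Φ := by
    rw [← MonoidHom.ker_eq_bot_iff]
    refine (Subgroup.Normal.eq_bot_or_eq_top inferInstance).resolve_right fun h => ?_
    have h1 : S.θ genA = 1 := by
      rw [← hΦ]
      exact MonoidHom.mem_ker.1 (h ▸ mem_top (psiCom ((genA : ↥centJ) : Cfsg.Spor.Fi23)))
    exact gen_ne_one (i := 0) (by norm_num)
      (congrArg (fun w : ↥centJ => (w : Cfsg.Spor.Fi23)) (S.inj (h1.trans (map_one S.θ).symm)))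
  refine ⟨hinj, MonoidHom.range_eq_top.1 ?_⟩
  set R := Φ.range
  -- the pair behind `t`
  set t := S.θ genJ with ht
  have ej : IsConj Fi23P.eltT (Fi23P.fiGen 7) := gen_transp (by norm_num)
  obtain ⟨q, hq⟩ := Ext.exists_refl ej
  set i := refl24 q with hi
  have hel : eltL ∈ transp24 := mem_conjugatesOf_self
  have hil : i ∈ link transp24 eltL := ⟨refl24_mem q, refl24_ne q, refl24_commute_eltL q⟩
  have hli : Commute eltL i := refl24_commute_eltL q
  have hJ : psi (Fi23P.fiGen 7) = i * eltL := by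
    show psi (Fi23P.fiGen 7) = psi (Fi23P.Tri.refl q) * eltL * eltL
    rw [hq, mul_assoc, eltL_sq, mul_one]
  have hsl : Fi24P.signHom eltL = -1 := signHom_gen 0
  have htΦ : Φ (psiCom (Fi23P.fiGen 7)) = t := hΦ genJ
  have ht2 : t * t = 1 := by
    rw [← htΦ, ← map_mul, ← map_mul, show Fi23P.fiGen 7 * Fi23P.fiGen 7 = 1 from Fi23P.fiGen_sq 7 (by norm_num),
      map_one, map_one]
  have hθR : ∀ m, S.θ m ∈ R := fun m => ⟨_, hΦ m⟩
  have hCt : ∀ g, g * t = t * g → g ∈ R := by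
    obtain ⟨f₀, hf1, hf2⟩ : (link transp24 eltL ∩ link transp24 i).Nonempty :=
      (Set.ncard_pos (Set.toFinite _)).1 (by rw [CfsgLib.M24.link_two_ncard setup24 hel hil]; norm_num)
    obtain ⟨s, -, hs1, hs2⟩ := CfsgLib.M24.swapper setup24 hel hil hf1 hf2
    obtain ⟨k, hk, hk1, hk2⟩ : ∃ k, Fi24P.signHom k = 1 ∧ k * eltL * k⁻¹ = i ∧ k * i * k⁻¹ = eltL := by
      rcases Int.units_eq_one_or (Fi24P.signHom s) with h | h
      · exact ⟨s, h, hs1, hs2⟩
      · refine ⟨s * eltL, by rw [map_mul, h, hsl]; decide, ?_, ?_⟩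
        · rw [show s * eltL * eltL * (s * eltL)⁻¹ = s * (eltL * eltL * eltL⁻¹) * s⁻¹ by group, mul_inv_cancel_right, hs1]
        · rw [show s * eltL * i * (s * eltL)⁻¹ = s * (eltL * i * eltL⁻¹) * s⁻¹ by group, hli.eq, mul_inv_cancel_right, hs2]
    set w := Φ ⟨k, mem_com hk⟩
    have hw : w * t = t * w := by
      rw [← htΦ, ← map_mul, ← map_mul]
      refine congrArg Φ (Subtype.ext ?_)
      show k * psi (Fi23P.fiGen 7) = psi (Fi23P.fiGen 7) * k
      rw [hJ]
      calc k * (i * eltL) = k * i * k⁻¹ * (k * eltL * k⁻¹) * k := by group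
        _ = eltL * i * k := by rw [hk1, hk2]
        _ = i * eltL * k := by rw [hli.eq]
    have hwn : (⟨w, mem_centralizer_singleton_iff.2 hw⟩ : ↥(centralizer ({t} : Set G))) ∉
        S.θ.range.subgroupOf (centralizer ({t} : Set G)) := by
      intro h
      obtain ⟨m, hm⟩ := mem_subgroupOf.1 h
      have hm' : S.θ m = w := hm
      rw [← hΦ] at hm'
      have e : psi (m : Cfsg.Spor.Fi23) = k := congrArg Subtype.val (hinj hm')
      have hc : Commute k eltL := by rw [← e]; exact (subgH_commute (psi_mem _)).symm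
      refine hil.2.1 ?_
      rw [← hk1, hc.eq, mul_inv_cancel_right]
    intro g hg
    by_cases h : (⟨g, mem_centralizer_singleton_iff.2 hg⟩ : ↥(centralizer ({t} : Set G))) ∈
        S.θ.range.subgroupOf (centralizer ({t} : Set G))
    · obtain ⟨m, hm⟩ := mem_subgroupOf.1 h
      exact (show S.θ m = g from hm) ▸ hθR m
    · obtain ⟨m, hm⟩ := mem_subgroupOf.1
        ((Subgroup.mul_mem_iff_of_index_two S.index).2 (iff_of_false hwn h))
      have hm' : S.θ m = w * g := hm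
      have := R.mul_mem (R.inv_mem (⟨_, rfl⟩ : w ∈ R)) (hθR m)
      rwa [hm', inv_mul_cancel_left] at this
  -- `z` is a quadruple
  obtain ⟨Z, hZ⟩ := hCt z S.commute_z.eq
  have hz2 : orderOf z = 2 := hF.1.1
  have hpair : ∀ (p u : Cfsg.Spor.Fi24) (v : ↥comG), p ∈ transp24 → u ∈ link transp24 p → p * u = (v : Cfsg.Spor.Fi24) →
      ∃ k : ↥comG, Φ k * t * (Φ k)⁻¹ = Φ v := by
    intro p u v hp hu hv
    obtain ⟨k, hk⟩ := isConj_iff.1 (CfsgLib.M24.pair_conj setup24 hel hil hp hu)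
    obtain ⟨k', hk', hke⟩ : ∃ k', Fi24P.signHom k' = 1 ∧ k' * (eltL * i) * k'⁻¹ = p * u := by
      rcases Int.units_eq_one_or (Fi24P.signHom k) with h | h
      · exact ⟨k, h, hk⟩
      · refine ⟨k * eltL, by rw [map_mul, h, hsl]; decide, ?_⟩
        rw [← hk, show k * eltL * (eltL * i) * (k * eltL)⁻¹ = k * (eltL * (eltL * i) * eltL⁻¹) * k⁻¹ by group,
          ((Commute.refl eltL).mul_right hli).eq, mul_inv_cancel_right]
    refine ⟨⟨k', mem_com hk'⟩, ?_⟩
    rw [← htΦ, ← map_inv, ← map_mul, ← map_mul]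
    refine congrArg Φ (Subtype.ext ?_)
    show k' * psi (Fi23P.fiGen 7) * k'⁻¹ = _
    rw [hJ, ← hli.eq, hke, hv]
  have hodd : ∀ v : ↥comG, Fi24P.signHom (v : Cfsg.Spor.Fi24) = 1 := fun v => MonoidHom.mem_ker.1 (com_le_ker v.2)
  have shape : ∀ v : ↥comG, orderOf v = 2 → (∃ p u, p ∈ transp24 ∧ u ∈ link transp24 p ∧ p * u = (v : Cfsg.Spor.Fi24)) ∨
      ∃ a b c d, CfsgLib.M24.Quad transp24 a b c d ∧ a * b * c * d = (v : Cfsg.Spor.Fi24) := by
    intro v hv
    rw [← Subgroup.orderOf_coe] at hv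
    rcases CfsgLib.M24.invol_cases setup24 hv with h | h | ⟨p, u, r, T, h⟩ | h
    · exact absurd (hodd v) (by rw [Ext.sign_of_mem h]; decide)
    · exact .inl h
    · refine absurd (hodd v) ?_
      rw [← h, map_mul, map_mul, Ext.sign_of_mem T.ha, Ext.sign_of_mem T.hb, Ext.sign_of_mem T.hc]
      decide
    · exact .inr h
  obtain ⟨a, b, c, d, U, hU⟩ : ∃ a b c d, CfsgLib.M24.Quad transp24 a b c d ∧ a * b * c * d = (Z : Cfsg.Spor.Fi24) := by
    refine (shape Z (by rw [← orderOf_injective Φ hinj, hZ, hz2])).resolve_left ?_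
    rintro ⟨p, u, hp, hu, hv⟩
    obtain ⟨k, hk⟩ := hpair p u Z hp hu hv
    rw [hZ] at hk
    exact S.not_z (IsConj.symm (isConj_iff.2 ⟨Φ k, hk⟩))
  have hCz : ∀ g, g * z = z * g → g ∈ R := by
    set C := Fi24P.signHom.ker ⊓ CfsgLib.M24Quad.CZ (Z : Cfsg.Spor.Fi24) with hC
    obtain ⟨Q', -, -, -, hQ', N', M', nN', -, -, hNM', hcN', ⟨K', iK, iK', hK', e'⟩, hM'⟩ :=
      CfsgLib.M24Quad.centralizer_structure setup24 ⟨a, b, c, d, U, hU⟩ (fun x hx => Ext.sign_of_mem hx) C hC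
    haveI := nN'
    have h24 := Ext.shape_card hNM' (by rw [hcN', hQ']) hK' e' hM'
    obtain ⟨⟨-, -, -, hQc, -⟩, N, M, nN, -, -, hNM, hcN, ⟨K, jK, jK', hK, e⟩, hM⟩ := hF
    haveI := nN
    have hX := Ext.shape_card hNM (by rw [hcN, hQc]) hK e hM
    let f : ↥C → ↥(centralizer ({z} : Set G)) := fun m =>
      ⟨Φ ⟨m, mem_com (MonoidHom.mem_ker.1 m.2.1)⟩, mem_centralizer_singleton_iff.2 (by
        rw [← hZ, ← map_mul, ← map_mul]
        exact congrArg Φ (Subtype.ext (mem_centralizer_singleton_iff.1 m.2.2)))⟩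
    have hf : Function.Injective f := fun m n h => Subtype.ext
      (congrArg (fun w : ↥comG => (w : Cfsg.Spor.Fi24)) (hinj (congrArg (fun w : ↥(centralizer ({z} : Set G)) => (w : G)) h)))
    have hbij := (Nat.bijective_iff_injective_and_card f).2 ⟨hf, by rw [h24, hX]⟩
    intro g hg
    obtain ⟨m, hm⟩ := hbij.2 ⟨g, mem_centralizer_singleton_iff.2 hg⟩
    exact ⟨_, congrArg (fun w : ↥(centralizer ({z} : Set G)) => (w : G)) hm⟩
  -- involutions of the image
  have cases_inv : ∀ x, x ∈ R → orderOf x = 2 →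
      (∃ g ∈ R, g * t * g⁻¹ = x) ∨ ∃ g ∈ R, g * z * g⁻¹ = x := by
    rintro _ ⟨v, rfl⟩ hord
    rw [orderOf_injective Φ hinj] at hord
    rcases shape v hord with ⟨p, u, hp, hu, hv⟩ | ⟨a', b', c', d', W, hW⟩
    · obtain ⟨k, hk⟩ := hpair p u v hp hu hv
      exact .inl ⟨Φ k, ⟨k, rfl⟩, hk⟩
    · obtain ⟨k, k1, k2, k3, k4⟩ := CfsgLib.M24.quad_conj setup24 U W
      have hk : k * (Z : Cfsg.Spor.Fi24) * k⁻¹ = v := by
        rw [← hU, ← hW, ← k1, ← k2, ← k3, ← k4]
        group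
      have haZ : Commute a (Z : Cfsg.Spor.Fi24) := by
        rw [← hU]
        exact ((((Commute.refl a).mul_right U.tri.cab).mul_right U.tri.cac).mul_right U.hd.1.1.2.2)
      obtain ⟨k', hk', hke⟩ : ∃ k', Fi24P.signHom k' = 1 ∧ k' * (Z : Cfsg.Spor.Fi24) * k'⁻¹ = v := by
        rcases Int.units_eq_one_or (Fi24P.signHom k) with h | h
        · exact ⟨k, h, hk⟩
        · refine ⟨k * a, by rw [map_mul, h, Ext.sign_of_mem U.tri.ha]; decide, ?_⟩
          rw [← hk, show k * a * (Z : Cfsg.Spor.Fi24) * (k * a)⁻¹ = k * (a * Z * a⁻¹) * k⁻¹ by group, haZ.eq,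
            mul_inv_cancel_right]
      refine .inr ⟨Φ ⟨k', mem_com hk'⟩, ⟨_, rfl⟩, ?_⟩
      rw [← hZ, ← map_inv, ← map_mul, ← map_mul]
      exact congrArg Φ (Subtype.ext hke)
  have cent : ∀ {g u v : G}, g ∈ R → (∀ h, h * u = u * h → h ∈ R) → g * u * g⁻¹ = v →
      ∀ h, h * v = v * h → h ∈ R := by
    intro g u v hg hu e h hc
    have h1 : g⁻¹ * h * g ∈ R := hu _ (by
      rw [← e] at hc
      calc g⁻¹ * h * g * u = g⁻¹ * (h * (g * u * g⁻¹)) * g := by group
        _ = g⁻¹ * ((g * u * g⁻¹) * h) * g := by rw [hc]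
        _ = _ := by group)
    have := mul_mem (mul_mem hg h1) (inv_mem hg)
    rwa [show g * (g⁻¹ * h * g) * g⁻¹ = h by group] at this
  have hzz : z * z = 1 := by rw [← pow_two, ← hz2, pow_orderOf_eq_one]
  have hto : orderOf t = 2 := orderOf_eq_prime (by rw [pow_two]; exact ht2) fun e =>
    gen_ne_one (i := 7) (by norm_num)
      (congrArg (fun w : ↥centJ => (w : Cfsg.Spor.Fi23)) (S.inj (e.trans (map_one S.θ).symm) : genJ = 1))
  have htz : ∀ g, g * t * g⁻¹ ≠ z := fun g e => S.not_z (IsConj.symm (isConj_iff.2 ⟨g, e⟩))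
  refine (Subgroup.eq_top_iff' R).2 fun g => ?_
  set y := g * t * g⁻¹ with hy
  have hy2 : orderOf y = 2 := by rw [hy, ← MulAut.conj_apply, MulEquiv.orderOf_eq, hto]
  have hyy : y * y = 1 := by rw [← pow_two, ← hy2, pow_orderOf_eq_one]
  have heven : Even (orderOf (y * z)) := by
    by_contra ho
    obtain ⟨k, hk⟩ := CfsgLib.RankOneSetup.conj_of_odd_orderOf hyy hzz (Nat.not_even_iff_odd.1 ho)
    refine htz ((y * z) ^ k * g) ?_
    calc _ = (y * z) ^ k * (g * t * g⁻¹) * ((y * z) ^ k)⁻¹ := by group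
      _ = z := hk
  obtain ⟨w, hw1, hw2, hwy, hwz⟩ :=
    CfsgLib.RankOneSetup.exists_commute_of_even_orderOf (s := y) (u := z) hyy hzz heven
  have hw : orderOf w = 2 := orderOf_eq_prime (by rw [pow_two]; exact hw2) hw1
  have hyR : y ∈ R := by
    rcases cases_inv w (hCz w hwz) hw with ⟨g', hg', e⟩ | ⟨g', hg', e⟩
    · exact cent hg' hCt e y hwy.symm
    · exact cent hg' hCz e y hwy.symm
  rcases cases_inv y hyR hy2 with ⟨g', hg', e⟩ | ⟨g', hg', e⟩
  · have h1 : g'⁻¹ * g ∈ R := hCt _ (mul_inv_eq_iff_eq_mul.1 (by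
      calc g'⁻¹ * g * t * (g'⁻¹ * g)⁻¹ = g'⁻¹ * y * g' := by rw [hy]; group
        _ = t := by rw [← e]; group))
    have := mul_mem hg' h1
    rwa [mul_inv_cancel_left] at this
  · exact absurd (show g'⁻¹ * g * t * (g'⁻¹ * g)⁻¹ = z by
      calc g'⁻¹ * g * t * (g'⁻¹ * g)⁻¹ = g'⁻¹ * y * g' := by rw [hy]; group
        _ = z := by rw [← e]; group) (htz _)

/-- The group is then isomorphic to `Fi24'`. -/
theorem iso_of_hom {G : Type*} [Group G] [Finite G] {z : G} (Q : Subgroup (centralizer ({z} : Set G))) [Q.Normal]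
    (hF : Cfsg.IsOfLargeFischerTypeAt z Q) (S : Start z) (Φ : ↥comG →* G)
    (hΦ : ∀ m : ↥centJ, Φ (psiCom (m : Cfsg.Spor.Fi23)) = S.θ m) : Cfsg.Spor.IsoFi24' G :=
  ⟨(MulEquiv.ofBijective Φ (bijective Q hF S Φ hΦ)).symm⟩

end CfsgLib.LargeFischer.Prime
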