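import Cfsg.Agent.Lib.Fi22P.Mult
import Cfsg.Agent.Lib.Fi22P.Out
import Cfsg.Agent.Lib.Fi22P.ThreeT
import Cfsg.Agent.Lib.LargeFischer.Outer.Cover

/-!
# Perfect double covers of `Fi22`, involutions centralised by an element of order eleven
-/

set_option autoImplicit false
set_option linter.style.haveILetI false
set_option linter.unusedSectionVars false

namespace CfsgLib.LargeFischer.Prime

open Subgroup
open scoped Pointwise commutatorElement

/-- A perfect group with a central extension of `S` has only one perfect supplement. -/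
theorem top_of_map_top {A S : Type*} [Group A] [Group S] (π : A →* S) (hc : π.ker ≤ center A)
    (hperf : commutator A = ⊤) {H : Subgroup A} (hH : H.map π = ⊤) : H = ⊤ := by
  refine top_le_iff.1 (hperf ▸ (Fi22P.commutator_of_central π hc H hH).trans ?_)
  rw [Subgroup.commutator_le]
  intro a ha b hb
  exact H.mul_mem (H.mul_mem (H.mul_mem ha hb) (H.inv_mem ha)) (H.inv_mem hb)

theorem card_double {D : Type*} [Group D] (δ : D →* Cfsg.Spor.Fi22) (hδ : Function.Surjective δ)
    (h2 : Nat.card δ.ker = 2) : Nat.card D = 2 * Nat.card Cfsg.Spor.Fi22 := by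
  have h := δ.ker.card_mul_index
  rw [index_ker, MonoidHom.range_eq_top.2 hδ, card_top, h2] at h
  exact h.symm

/-- Perfect central double covers of `Fi22` are isomorphic over `Fi22`. -/
theorem double_iso {A B : Type*} [Group A] [Finite A] [Group B] [Finite B]
    (π : A →* Cfsg.Spor.Fi22) (ρ : B →* Cfsg.Spor.Fi22) (hπ : Function.Surjective π)
    (hρ : Function.Surjective ρ) (hcA : π.ker ≤ center A) (hcB : ρ.ker ≤ center B)
    (hA : Nat.card π.ker = 2) (hB : Nat.card ρ.ker = 2) (hpA : commutator A = ⊤) (hpB : commutator B = ⊤) :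
    ∃ e : A ≃* B, ∀ a, ρ (e a) = π a := by
  classical
  set P : Subgroup (A × B) := (π.comp (MonoidHom.fst A B)).eqLocus (ρ.comp (MonoidHom.snd A B)) with hP
  set σ₀ : ↥P →* Cfsg.Spor.Fi22 := π.comp ((MonoidHom.fst A B).comp P.subtype) with hσ₀
  have hs₀ : Function.Surjective σ₀ := fun s => by
    obtain ⟨a, ha⟩ := hπ s
    obtain ⟨b, hb⟩ := hρ s
    exact ⟨⟨(a, b), show π a = ρ b by rw [ha, hb]⟩, ha⟩
  have hc₀ : σ₀.ker ≤ center ↥P := fun x hx => mem_center_iff.2 fun y => Subtype.ext (Prod.ext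
    (mem_center_iff.1 (hcA (show π x.1.1 = 1 from hx)) y.1.1)
    (mem_center_iff.1 (hcB (show ρ x.1.2 = 1 from (x.2 : π x.1.1 = ρ x.1.2).symm.trans hx)) y.1.2))
  set C := commutator ↥P with hC
  have hCtop : C.map σ₀ = ⊤ := by
    rw [hC, _root_.commutator_def, map_commutator, map_top_of_surjective σ₀ hs₀, ← _root_.commutator_def]
    exact Fi22P.fi_commutator
  let σ : ↥C →* Cfsg.Spor.Fi22 := σ₀.comp C.subtype
  have hs : Function.Surjective σ := fun s => by
    obtain ⟨x, hx, rfl⟩ := (hCtop ▸ mem_top s : s ∈ C.map σ₀)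
    exact ⟨⟨x, hx⟩, rfl⟩
  have hperf : commutator ↥C = ⊤ := by
    refine eq_top_iff.2 fun x _ => ?_
    have h1 : (x : ↥P) ∈ (⁅C, C⁆ : Subgroup ↥P) := Fi22P.commutator_of_central σ₀ hc₀ C hCtop x.2
    rw [← map_subtype_commutator] at h1
    obtain ⟨w, hw, hwx⟩ := h1
    rwa [← Subtype.ext hwx]
  have hcσ : σ.ker ≤ center ↥C := fun x hx => mem_center_iff.2 fun y =>
    Subtype.ext (mem_center_iff.1 (hc₀ (show σ₀ (x : ↥P) = 1 from hx)) y)
  obtain ⟨m, hm⟩ := Fi22P.stem_ker hs hcσ (by rw [hperf]; exact le_top)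
  haveI : IsCyclic ↥σ.ker := isCyclic_of_surjective m hm
  have hle : Nat.card ↥σ.ker ≤ 2 := by
    obtain ⟨g, hg⟩ := IsCyclic.exists_generator (α := ↥σ.ker)
    have hk1 : (⟨((g : ↥C) : ↥P).1.1, g.2⟩ : ↥π.ker) ^ 2 = 1 := hA ▸ pow_card_eq_one'
    have hk2 : (⟨((g : ↥C) : ↥P).1.2, ((g : ↥C) : ↥P).2.symm.trans g.2⟩ : ↥ρ.ker) ^ 2 = 1 :=
      hB ▸ pow_card_eq_one'
    have h2 : g ^ 2 = 1 := Subtype.ext (Subtype.ext (Subtype.ext (Prod.ext
      (congrArg Subtype.val hk1) (congrArg Subtype.val hk2))))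
    rw [← orderOf_eq_card_of_forall_mem_zpowers hg]
    exact orderOf_le_of_pow_eq_one (by norm_num) h2
  have hcard : Nat.card ↥C ≤ 2 * Nat.card Cfsg.Spor.Fi22 := by
    have h := σ.ker.card_mul_index
    rw [index_ker, MonoidHom.range_eq_top.2 hs, card_top] at h
    rw [← h]
    exact Nat.mul_le_mul_right _ hle
  let pA : ↥C →* A := (MonoidHom.fst A B).comp (P.subtype.comp C.subtype)
  let pB : ↥C →* B := (MonoidHom.snd A B).comp (P.subtype.comp C.subtype)
  have hpi : ∀ x, π (pA x) = σ x := fun x => rfl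
  have hrho : ∀ x, ρ (pB x) = σ x := fun x => ((x : ↥P).2 : π (pA x) = ρ (pB x)).symm
  have hsA : Function.Surjective pA := MonoidHom.range_eq_top.1 (top_of_map_top π hcA hpA (by
    refine eq_top_iff.2 fun s _ => ?_
    obtain ⟨x, rfl⟩ := hs s
    exact ⟨pA x, ⟨x, rfl⟩, hpi x⟩))
  have hsB : Function.Surjective pB := MonoidHom.range_eq_top.1 (top_of_map_top ρ hcB hpB (by
    refine eq_top_iff.2 fun s _ => ?_
    obtain ⟨x, rfl⟩ := hs s
    exact ⟨pB x, ⟨x, rfl⟩, hrho x⟩))
  have bA : Function.Bijective pA := (Nat.bijective_iff_surjective_and_card pA).2 ⟨hsA,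
    le_antisymm (hcard.trans (card_double π hπ hA).ge) (Nat.card_le_card_of_surjective pA hsA)⟩
  have bB : Function.Bijective pB := (Nat.bijective_iff_surjective_and_card pB).2 ⟨hsB,
    le_antisymm (hcard.trans (card_double ρ hρ hB).ge) (Nat.card_le_card_of_surjective pB hsB)⟩
  refine ⟨(MulEquiv.ofBijective pA bA).symm.trans (MulEquiv.ofBijective pB bB), fun a => ?_⟩
  show ρ (pB ((MulEquiv.ofBijective pA bA).symm a)) = π a
  rw [hrho, ← hpi]
  exact congrArg π ((MulEquiv.ofBijective pA bA).apply_symm_apply a)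

open CfsgLib.Fi22P in
/-- An involution of `Fi22` commuting with an element of order eleven is a transposition. -/
theorem invol_eleven {v h : Cfsg.Spor.Fi22} (hv : v * v = 1) (hv1 : v ≠ 1) (hh : orderOf h = 11)
    (hc : Commute v h) : ∃ c, c * fA * c⁻¹ = v := by
  haveI := card_fi.1
  haveI : Fact (Nat.Prime 11) := ⟨by norm_num⟩
  have hsyl : ∀ g : Cfsg.Spor.Fi22, orderOf g = 11 →
      ∃ S : Sylow 11 Cfsg.Spor.Fi22, (S : Subgroup Cfsg.Spor.Fi22) = zpowers g := fun g hg => by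
    refine ⟨Sylow.ofCard (zpowers g) ?_, Sylow.coe_ofCard _ _⟩
    rw [Nat.card_zpowers, hg, card_fi.2,
      show (64561751654400 : ℕ) = 11 * 5869250150400 from by norm_num,
      Nat.factorization_mul (by norm_num) (by norm_num), Finsupp.add_apply,
      Nat.Prime.factorization_self (by norm_num),
      Nat.factorization_eq_zero_of_not_dvd (by norm_num : ¬ 11 ∣ 5869250150400)]
    norm_num
  obtain ⟨Su, hSu⟩ := hsyl _ Out.u_order
  obtain ⟨Sh, hSh⟩ := hsyl _ hh
  obtain ⟨c, hc'⟩ := MulAction.exists_smul_eq Cfsg.Spor.Fi22 Su Sh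
  have hmem : c * Out.uElt * c⁻¹ ∈ zpowers h := by
    rw [← hSh, ← hc', Sylow.coe_subgroup_smul, hSu]
    exact Subgroup.smul_mem_pointwise_smul Out.uElt (MulAut.conj c) _ (mem_zpowers _)
  obtain ⟨j, hj⟩ := mem_zpowers_iff.1 hmem
  have hvu : Commute v (c * Out.uElt * c⁻¹) := hj ▸ hc.zpow_right j
  set v' := c⁻¹ * v * c with hv'
  have hcu : v' * Out.uElt = Out.uElt * v' := by
    calc v' * Out.uElt = c⁻¹ * (v * (c * Out.uElt * c⁻¹)) * c := by rw [hv']; group
      _ = c⁻¹ * ((c * Out.uElt * c⁻¹) * v) * c := by rw [hvu.eq]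
      _ = _ := by rw [hv']; group
  have hsq : v' * v' = 1 := by
    calc v' * v' = c⁻¹ * (v * v) * c := by rw [hv']; group
      _ = 1 := by rw [hv]; group
  have hne : v' ≠ 1 := fun h1 => hv1 (by
    calc v = c * v' * c⁻¹ := by rw [hv']; group
      _ = 1 := by rw [h1]; group)
  have hodd : ∀ a : ℕ, Out.uElt ^ a * Out.uElt ^ a = 1 → Out.uElt ^ a = 1 := fun a ha => by
    rw [← pow_add, ← orderOf_dvd_iff_pow_eq_one, Out.u_order] at ha
    rw [← orderOf_dvd_iff_pow_eq_one, Out.u_order]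
    omega
  obtain ⟨a, ha | ha⟩ := Out.u_cent hcu
  · exact absurd (ha.trans (hodd a (ha ▸ hsq))) hne
  · have hdu : Commute Out.dElt (Out.uElt ^ a) := (show Commute Out.uElt Out.dElt from Out.du).symm.pow_right a
    have : v' * v' = Out.uElt ^ a * Out.uElt ^ a := by
      calc v' * v' = Out.uElt ^ a * (Out.dElt * Out.uElt ^ a) * Out.dElt := by rw [ha]; group
        _ = Out.uElt ^ a * Out.uElt ^ a * (Out.dElt * Out.dElt) := by rw [hdu.eq]; group
        _ = _ := by rw [Out.d_sq, mul_one]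
    rw [hodd a (this ▸ hsq), one_mul] at ha
    refine ⟨c, ?_⟩
    rw [show fA = Out.dElt from rfl, ← ha, hv']
    group

open CfsgLib.LargeFischer.Outer (Fi)
open scoped commutatorElement

section

variable {G : Type*} [Group G] {t : G} (F : Fi t)

/-- A perfect subgroup commuting with `t` lies in the cover. -/
theorem perfect_le {C : Subgroup G} (hC : commutator ↥C = ⊤) (hct : ∀ g ∈ C, g * t = t * g) {g : G} (hg : g ∈ C) :
    (⟨g, mem_centralizer_singleton_iff.2 (hct g hg)⟩ : ↥(centralizer ({t} : Set G))) ∈ F.K := by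
  haveI := F.norm
  let f : ↥C →* ↥(centralizer ({t} : Set G)) :=
    C.subtype.codRestrict _ fun c => mem_centralizer_singleton_iff.2 (hct c c.2)
  let χ : ↥C →* ↥(centralizer ({t} : Set G)) ⧸ F.K := (QuotientGroup.mk' F.K).comp f
  have h1 : commutator ↥C ≤ χ.ker := by
    rw [_root_.commutator_def, Subgroup.commutator_le]
    intro a _ b _
    show QuotientGroup.mk' F.K (f ⁅a, b⁆) = 1
    rw [map_commutatorElement, QuotientGroup.mk'_apply, QuotientGroup.eq_one_iff, commutatorElement_def]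
    by_cases ha : f a ∈ F.K <;> by_cases hb : f b ∈ F.K <;>
      simp [Subgroup.mul_mem_iff_of_index_two F.index, ha, hb]
  rw [hC] at h1
  exact (QuotientGroup.eq_one_iff _).1 (MonoidHom.mem_ker.1 (h1 (mem_top (⟨g, hg⟩ : ↥C))))

theorem zpowers_two (ht : t * t = 1) {g : G} (hg : g ∈ zpowers t) : g = 1 ∨ g = t := by
  obtain ⟨j, rfl⟩ := mem_zpowers_iff.1 hg
  rcases Int.even_or_odd j with ⟨k, rfl⟩ | ⟨k, rfl⟩
  · left; rw [← two_mul, zpow_mul, zpow_two, ht, one_zpow]
  · right; rw [zpow_add, zpow_mul, zpow_two, ht, one_zpow, one_mul, zpow_one]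

/-- Elements of the cover with equal images differ by `t`. -/
theorem iota_eq (ht : t * t = 1) {k l : ↥F.K} (h : F.ι k = F.ι l) :
    ((k : ↥(centralizer ({t} : Set G))) : G) = ((l : ↥(centralizer ({t} : Set G))) : G) ∨
      ((k : ↥(centralizer ({t} : Set G))) : G) = ((l : ↥(centralizer ({t} : Set G))) : G) * t := by
  have h1 : F.ι (l⁻¹ * k) = 1 := by rw [map_mul, map_inv, h, inv_mul_cancel]
  rcases zpowers_two ht ((F.ker _).1 h1) with e | e
  · exact .inl (inv_mul_eq_one.1 e).symm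
  · exact .inr (inv_mul_eq_iff_eq_mul.1 e)

open CfsgLib.Fi22P in
/-- The image of an involution whose centraliser with `t` is perfect with an element of order eleven. -/
theorem iota_transp [Finite G] (ht : t * t = 1) {x : G} (hxx : x * x = 1) (hxt : Commute x t)
    (hx1 : x ≠ 1) (hxne : x ≠ t) {C : Subgroup G} (hC : commutator ↥C = ⊤)
    (hct : ∀ g ∈ C, g * t = t * g) (hxC : x ∈ C) {h : G} (hh : h ∈ C) (hh11 : orderOf h = 11)
    (hhx : Commute h x) :
    ∃ c, c * fA * c⁻¹ = F.ι ⟨⟨x, mem_centralizer_singleton_iff.2 hxt.eq⟩, perfect_le F hC hct hxC⟩ := by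
  set kx : ↥F.K := ⟨⟨x, mem_centralizer_singleton_iff.2 hxt.eq⟩, perfect_le F hC hct hxC⟩
  set kh : ↥F.K := ⟨⟨h, mem_centralizer_singleton_iff.2 (hct h hh)⟩, perfect_le F hC hct hh⟩
  refine invol_eleven (h := F.ι kh) ?_ ?_ ?_ ?_
  · rw [← map_mul, show kx * kx = 1 from Subtype.ext (Subtype.ext hxx), map_one]
  · exact fun e => (zpowers_two ht ((F.ker kx).1 e)).elim hx1 hxne
  · haveI : Fact (Nat.Prime 11) := ⟨by norm_num⟩
    refine orderOf_eq_prime ?_ fun e => ?_
    · rw [← map_pow, show kh ^ 11 = 1 from Subtype.ext (Subtype.ext (by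
        show h ^ 11 = 1
        rw [← hh11, pow_orderOf_eq_one])), map_one]
    · rcases zpowers_two ht ((F.ker kh).1 e) with e' | e' <;> rw [show h = _ from e'] at hh11
      · simp at hh11
      · have : orderOf t ∣ 2 := orderOf_dvd_of_pow_eq_one (by rw [pow_two, ht])
        rw [hh11] at this
        omega
  · show F.ι kx * F.ι kh = F.ι kh * F.ι kx
    rw [← map_mul, ← map_mul, show kx * kh = kh * kx from Subtype.ext (Subtype.ext hhx.symm.eq)]

include F in
open CfsgLib.Fi22P in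
/-- An element of the centraliser of `t` exchanging `x` with `x t`. -/
theorem exists_swap [Finite G] (ht : t * t = 1) {x : G} (hxx : x * x = 1) (hxt : Commute x t)
    (hx1 : x ≠ 1) (hxne : x ≠ t) {C : Subgroup G} (hC : commutator ↥C = ⊤)
    (hct : ∀ g ∈ C, g * t = t * g) (hall : ∀ g, g * t = t * g → g * x = x * g → g ∈ C)
    (hxC : x ∈ C) {h : G} (hh : h ∈ C) (hh11 : orderOf h = 11) (hhx : Commute h x) :
    ∃ w : G, w * t = t * w ∧ w * x * w⁻¹ = x * t := by
  haveI := F.norm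
  obtain ⟨c, hc⟩ := iota_transp F ht hxx hxt hx1 hxne hC hct hxC hh hh11 hhx
  set kx : ↥F.K := ⟨⟨x, mem_centralizer_singleton_iff.2 hxt.eq⟩, perfect_le F hC hct hxC⟩
  obtain ⟨u₀, hu₀⟩ : ∃ u : ↥(centralizer ({t} : Set G)), u ∉ F.K := by
    by_contra hn
    simp only [not_exists, not_not] at hn
    have h2 := F.index
    rw [show F.K = ⊤ from eq_top_iff.2 fun u _ => hn u, index_top] at h2
    exact absurd h2 (by norm_num)
  set ku : ↥F.K := ⟨u₀ * kx * u₀⁻¹, F.norm.conj_mem _ kx.2 u₀⟩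
  -- the conjugate is again a transposition
  set hC' : ↥F.K := ⟨u₀ * ⟨h, mem_centralizer_singleton_iff.2 (hct h hh)⟩ * u₀⁻¹,
    F.norm.conj_mem _ (perfect_le F hC hct hh) u₀⟩
  obtain ⟨c', hc'⟩ : ∃ c', c' * fA * c'⁻¹ = F.ι ku := by
    refine invol_eleven (h := F.ι hC') ?_ ?_ ?_ ?_
    · rw [← map_mul, show ku * ku = 1 from Subtype.ext (Subtype.ext (by
        show (u₀ : G) * x * (u₀ : G)⁻¹ * ((u₀ : G) * x * (u₀ : G)⁻¹) = 1
        calc _ = (u₀ : G) * (x * x) * (u₀ : G)⁻¹ := by group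
          _ = 1 := by rw [hxx]; group)), map_one]
    · intro e
      have hut : (u₀ : G) * t = t * (u₀ : G) := mem_centralizer_singleton_iff.1 u₀.2
      rcases zpowers_two ht ((F.ker ku).1 e) with e' | e'
      · exact hx1 (by
          have : (u₀ : G) * x * (u₀ : G)⁻¹ = 1 := e'
          rwa [mul_inv_eq_one, mul_eq_left] at this)
      · exact hxne (by
          have : (u₀ : G) * x * (u₀ : G)⁻¹ = t := e'
          rw [mul_inv_eq_iff_eq_mul, ← hut] at this
          exact mul_left_cancel this)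
    · haveI : Fact (Nat.Prime 11) := ⟨by norm_num⟩
      have ho : orderOf ((u₀ : G) * h * (u₀ : G)⁻¹) = 11 := by
        rw [← MulAut.conj_apply, MulEquiv.orderOf_eq, hh11]
      refine orderOf_eq_prime ?_ fun e => ?_
      · rw [← map_pow, show hC' ^ 11 = 1 from Subtype.ext (Subtype.ext (by
          show ((u₀ : G) * h * (u₀ : G)⁻¹) ^ 11 = 1
          rw [← ho, pow_orderOf_eq_one])), map_one]
      · rcases zpowers_two ht ((F.ker hC').1 e) with e' | e' <;>
          rw [show (u₀ : G) * h * (u₀ : G)⁻¹ = _ from e'] at ho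
        · simp at ho
        · have : orderOf t ∣ 2 := orderOf_dvd_of_pow_eq_one (by rw [pow_two, ht])
          rw [ho] at this
          omega
    · show F.ι ku * F.ι hC' = F.ι hC' * F.ι ku
      rw [← map_mul, ← map_mul]
      refine congrArg F.ι (Subtype.ext (Subtype.ext ?_))
      show (u₀ : G) * x * (u₀ : G)⁻¹ * ((u₀ : G) * h * (u₀ : G)⁻¹) =
        (u₀ : G) * h * (u₀ : G)⁻¹ * ((u₀ : G) * x * (u₀ : G)⁻¹)
      calc _ = (u₀ : G) * (x * h) * (u₀ : G)⁻¹ := by group
        _ = (u₀ : G) * (h * x) * (u₀ : G)⁻¹ := by rw [hhx.symm.eq]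
        _ = _ := by group
  obtain ⟨k, hk⟩ := F.surj (c * c'⁻¹)
  set u : ↥(centralizer ({t} : Set G)) := (k : ↥(centralizer ({t} : Set G))) * u₀ with hu
  have huK : u ∉ F.K := fun h1 => hu₀ (by
    have := F.K.mul_mem (F.K.inv_mem k.2) h1
    rwa [hu, inv_mul_cancel_left] at this)
  have he : F.ι (k * ku * k⁻¹) = F.ι kx := by
    rw [map_mul, map_mul, map_inv, hk, ← hc', ← hc]
    group
  refine ⟨u, mem_centralizer_singleton_iff.1 u.2, ?_⟩
  have e0 : (((k * ku * k⁻¹ : ↥F.K) : ↥(centralizer ({t} : Set G))) : G) = (u : G) * x * (u : G)⁻¹ := by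
    show (((k : ↥(centralizer ({t} : Set G))) : G)) * ((u₀ : G) * x * (u₀ : G)⁻¹) *
      (((k : ↥(centralizer ({t} : Set G))) : G))⁻¹ = _
    rw [hu, Subgroup.coe_mul]
    group
  rcases iota_eq F ht he with e | e <;> rw [e0] at e
  · exact absurd (perfect_le F hC hct (hall _ (mem_centralizer_singleton_iff.1 u.2) (mul_inv_eq_iff_eq_mul.1 e)))
      huK
  · exact e

end

end CfsgLib.LargeFischer.Prime
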