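import Cfsg.Agent.Lib.Fi24P.Simple
import Cfsg.Agent.Lib.Fi23P.ThreeT

/-!
# Models inside a group of large Fischer type of subgroups of the presented group `Fi23`

`Emb` is an embedding of `Fi23` with the automorphisms of the centralisers of commuting pairs of transpositions
realised by conjugation.
-/

set_option autoImplicit false
set_option maxRecDepth 100000

namespace CfsgLib.LargeFischer.Prime

open Subgroup Cfsg.Spor

/-- The end node `j`. -/
noncomputable abbrev fj : Cfsg.Spor.Fi23 := Fi23P.fiGen 7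

/-- The node `a`. -/
noncomputable abbrev fa : Cfsg.Spor.Fi23 := Fi23P.fiGen 0

/-- The centraliser of the end node. -/
noncomputable abbrev Mj : Subgroup Cfsg.Spor.Fi23 := centralizer {fj}

/-- The centraliser of the commuting pair. -/
noncomputable abbrev Nja : Subgroup Cfsg.Spor.Fi23 := centralizer {fj, fa}

theorem Nja_le : Nja ≤ Mj := Subgroup.centralizer_le (Set.singleton_subset_iff.2 (Set.mem_insert _ _))

theorem fj_mem : fj ∈ Mj := mem_centralizer_singleton_iff.2 rfl

theorem fj_fa : Commute fj fa :=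
  Fi23P.eq_of_base (u := [0, 7]) (v := [7, 0]) (by decide +kernel) |> fun h => by
    simpa [CfsgLib.PresCert.act_cons, CfsgLib.PresCert.act_nil, Commute, SemiconjBy, eq_comm] using h

theorem fa_mem : fa ∈ Mj := mem_centralizer_singleton_iff.2 fj_fa.symm.eq

variable {G : Type*} [Group G]

/-- An embedding of `Fi23` realising the automorphisms of the centralisers of commuting pairs. -/
structure Emb (z : G) where
  F : Cfsg.Spor.Fi23 →* G
  inj : Function.Injective F
  pair : ∀ {x y : Cfsg.Spor.Fi23}, x ∈ Fi23P.transp → y ∈ Fi23P.transp → x ≠ y → Commute x y →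
    ∀ g : G, Commute g (F x) → Commute g (F y) → ∃ m, F m = g
  extend : ∀ {x y : Cfsg.Spor.Fi23}, x ∈ Fi23P.transp → y ∈ Fi23P.transp → x ≠ y → Commute x y →
    ∀ α : MulAut ↥(centralizer ({x, y} : Set Cfsg.Spor.Fi23)), ∃ w : G, ∀ m : ↥(centralizer ({x, y} : Set Cfsg.Spor.Fi23)),
      w * F (m : Cfsg.Spor.Fi23) * w⁻¹ = F ((α m : ↥(centralizer ({x, y} : Set Cfsg.Spor.Fi23))) : Cfsg.Spor.Fi23)
  index : ((centralizer ({Fi23P.eltT} : Set Cfsg.Spor.Fi23)).map F).relIndex (centralizer ({F Fi23P.eltT} : Set G)) = 2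
  not_z : ¬ IsConj z (F Fi23P.eltT)
  commute_z : ∃ z' : G, IsConj z z' ∧ Commute z' (F Fi23P.eltT)

end CfsgLib.LargeFischer.Prime
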