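import Cfsg.Agent.Lib.LargeFischer.Prime.Fi23
import Cfsg.Agent.Lib.ThreeTransp.M23Centralizer

/-!
# The embedding of `Fi23` with the automorphisms of the centralisers of pairs
-/

set_option autoImplicit false
set_option maxRecDepth 100000
set_option linter.style.haveILetI false

namespace CfsgLib.LargeFischer.Prime

open CfsgLib.PresCert CfsgLib.Fi24P CfsgLib.Fi24P.ThreeT Subgroup
open CfsgLib.ThreeTransp (link)

attribute [local irreducible] relShort Fi23P.relShort Fi23P.levels Fi23P.wordA Fi23P.baseL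

theorem conj_cancel {M : Type*} [Group M] (k m : M) : k⁻¹ * (k * m * k⁻¹) * k = m := by group

/-- A commuting pair of transpositions is conjugate to `j`, `a`. -/
theorem exists_pair_move {x y : Cfsg.Spor.Fi23} (hx : x ∈ Fi23P.transp) (hy : y ∈ Fi23P.transp) (hne : x ≠ y)
    (hc : Commute x y) : ∃ k, k * fj * k⁻¹ = x ∧ k * fa * k⁻¹ = y := by
  haveI := Fi23P.card_fi.1
  obtain ⟨k₁, hk₁⟩ := setup23.cls (fiGen_mem (g := 7) (by norm_num)) hx
  have hy' : k₁⁻¹ * y * k₁ ∈ Fi23P.transp := by simpa using transp_conj hy k₁⁻¹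
  have cy : Commute fj (k₁⁻¹ * y * k₁) := by
    have h := (Commute.conj_iff k₁⁻¹).2 hc
    rwa [← hk₁, inv_inv, conj_cancel] at h
  obtain ⟨k₂, hk₂, hk₂'⟩ := move23 (fiGen_mem (g := 7) (by norm_num)) (fiGen_mem (g := 0) (by norm_num)) hy'
    (fiGen_ne (by norm_num) (by norm_num) (by norm_num)) (fun e => hne (by
      rw [← hk₁, ← e]; group)) fj_fa cy
  refine ⟨k₁ * k₂, ?_, ?_⟩
  · calc k₁ * k₂ * fj * (k₁ * k₂)⁻¹ = k₁ * (k₂ * fj * k₂⁻¹) * k₁⁻¹ := by group
      _ = x := by rw [hk₂.eq, mul_inv_cancel_right, hk₁]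
  · calc k₁ * k₂ * fa * (k₁ * k₂)⁻¹ = k₁ * (k₂ * fa * k₂⁻¹) * k₁⁻¹ := by group
      _ = y := by rw [hk₂']; group

namespace Start

variable {G : Type*} [Group G] [Finite G] {z : G} (S : Start z)

include S in
/-- The embedding, with the starting model it restricts to. -/
theorem exists_emb : ∃ (E : Emb z) (S' : Start z), ∀ m : ↥centJ, E.F (m : Cfsg.Spor.Fi23) = S'.θ m := by
  classical
  haveI := Fi23P.card_fi.1
  haveI := Fi23P.simple
  obtain ⟨F, hF⟩ := S.exists_hom
  have hFj : F fj = S.θ ⟨fj, fj_mem⟩ := hF 7 (by norm_num) (by norm_num) fj_mem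
  have hFa : F fa = S.θ ⟨fa, fa_mem⟩ := hF 0 (by norm_num) (by norm_num) fa_mem
  have hinj : Function.Injective F := by
    rw [← MonoidHom.ker_eq_bot_iff]
    refine (IsSimpleGroup.eq_bot_or_eq_top_of_normal F.ker F.normal_ker).resolve_right fun h => ?_
    have h1 : F fa = 1 := MonoidHom.mem_ker.1 (h ▸ Subgroup.mem_top _)
    rw [hFa, ← map_one S.θ] at h1
    have h2 : fa = 1 := congrArg Subtype.val (S.inj h1)
    have h3 := fi_comm (g := 0) (h := 7) (by norm_num) (by norm_num) (by decide)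
    have h4 := fi_braid (g := 0) (h := 1) (by norm_num) (by norm_num) (by decide)
    simp only [show Fi23P.fiGen 0 = 1 from h2, one_mul, mul_one] at h4
    rw [Fi23P.fiGen_sq 1 (by norm_num)] at h4
    exact fiGen_ne (g := 1) (h := 0) (by norm_num) (by norm_num) (by norm_num) (h4.trans h2.symm)
  set C := centralizer ({S.θ ⟨fj, fj_mem⟩} : Set G)
  haveI hnorm : (S.θ.range.subgroupOf C).Normal := Subgroup.normal_of_index_eq_two S.index
  have hFC : ∀ m ∈ Mj, F m ∈ C := fun m hm => mem_centralizer_singleton_iff.2 (by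
    rw [← hFj, ← map_mul, ← map_mul, mem_centralizer_singleton_iff.1 hm])
  have hle : Mj.map F ≤ S.θ.range := by
    rw [show Mj = ThreeTransp.Factor.linkSub Fi23P.transp fj from
      CfsgLib.M23.centralizer_eq setup23 (fiGen_mem (g := 7) (by norm_num))]
    rw [ThreeTransp.Factor.linkSub, MonoidHom.map_closure, Subgroup.closure_le]
    rintro _ ⟨x, hx, rfl⟩
    obtain ⟨k, hk, hkx⟩ := move23 (fiGen_mem (g := 7) (by norm_num)) (fiGen_mem (g := 0) (by norm_num)) hx.1
      (fiGen_ne (by norm_num) (by norm_num) (by norm_num)) hx.2.1 fj_fa hx.2.2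
    have hkC := hFC k (mem_centralizer_singleton_iff.2 hk.eq)
    have haC := hFC fa fa_mem
    have h := hnorm.conj_mem ⟨F fa, haC⟩ (Subgroup.mem_subgroupOf.2 ⟨⟨fa, fa_mem⟩, hFa.symm⟩) ⟨F k, hkC⟩
    rw [Subgroup.mem_subgroupOf] at h
    rw [← hkx, map_mul, map_mul, map_inv]
    exact h
  haveI : Finite ↥S.θ.range := inferInstance
  have heq : Mj.map F = S.θ.range := Subgroup.eq_of_le_of_card_ge hle (by
    rw [Subgroup.card_map_of_injective hinj, ← Nat.card_congr (MonoidHom.ofInjective S.inj).toEquiv])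
  have hpair0 : ∀ g : G, Commute g (F fj) → Commute g (F fa) → ∃ m, F m = g := fun g h1 h2 => by
    rw [hFj] at h1
    rw [hFa] at h2
    obtain ⟨m, hm⟩ := S.pair g h1 h2
    have hg : g ∈ Mj.map F := heq ▸ ⟨m, hm⟩
    obtain ⟨n, -, hn⟩ := hg
    exact ⟨n, hn⟩
  have hext0 : ∀ α : MulAut ↥Nja, ∃ w : G, ∀ m : ↥Nja,
      w * F (m : Cfsg.Spor.Fi23) * w⁻¹ = F ((α m : ↥Nja) : Cfsg.Spor.Fi23) := by
    intro α
    have hex : ∀ m : ↥Nja, ∃ n : ↥Nja, S.θ (inclusion Nja_le n) = F m := by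
      intro m
      obtain ⟨n, hn⟩ : F m ∈ S.θ.range := hle ⟨m, Nja_le m.2, rfl⟩
      refine ⟨⟨n, mem_pair.2 ⟨mem_one.1 n.2, ?_⟩⟩, hn⟩
      have h : Commute (S.θ n) (S.θ ⟨fa, fa_mem⟩) := by
        rw [hn, ← hFa]
        exact (mem_pair.1 m.2).2.map F
      exact congrArg Subtype.val (S.inj (a₁ := n * ⟨fa, fa_mem⟩) (a₂ := ⟨fa, fa_mem⟩ * n) (by
        rw [map_mul, map_mul]; exact h.eq))
    choose β hβ using hex
    let βh : ↥Nja →* ↥Nja := MonoidHom.mk' β fun m n => by
      refine inclusion_injective Nja_le (S.inj ?_)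
      rw [hβ, map_mul, map_mul, hβ, hβ, Subgroup.coe_mul, map_mul]
    have hβi : Function.Injective βh := fun m n h => by
      have h1 := congrArg (fun p => S.θ (inclusion Nja_le p)) h
      simp only [βh, MonoidHom.mk'_apply, hβ] at h1
      exact Subtype.ext (hinj h1)
    let βe : MulAut ↥Nja := MulEquiv.ofBijective βh (Finite.injective_iff_bijective.1 hβi)
    obtain ⟨w, hw⟩ := S.extend (βe * α * βe⁻¹)
    refine ⟨w, fun m => ?_⟩
    have h := hw (βe m)
    simp only [MulAut.mul_apply, MulAut.inv_apply_self] at h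
    rw [show inclJA (βe m) = inclusion Nja_le (β m) from rfl, hβ] at h
    rw [h]
    exact hβ (α m)
  -- the restriction is again a starting model
  set θ' : ↥centJ →* G := F.comp centJ.subtype
  have hj' : θ' genJ = S.θ ⟨fj, fj_mem⟩ := hFj
  have hrange : θ'.range = S.θ.range := by
    rw [MonoidHom.range_comp, Subgroup.range_subtype]
    exact heq
  let S' : Start z :=
    { θ := θ'
      inj := hinj.comp Subtype.val_injective
      le := by rw [hrange, hj']; exact S.le
      pair := fun g h1 h2 => by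
        obtain ⟨m, hm⟩ := hpair0 g h1 h2
        have hc : Commute m fj := hinj (by rw [map_mul, map_mul, hm]; exact h1.eq)
        exact ⟨⟨m, mem_centralizer_singleton_iff.2 hc.eq⟩, hm⟩
      index := by rw [hrange, hj']; exact S.index
      not_z := by rw [hj']; exact S.not_z
      commute_z := by rw [hj']; exact S.commute_z
      extend := hext0 }
  suffices h : ∃ E : Emb z, E.F = F by
    obtain ⟨E, hE⟩ := h
    exact ⟨E, S', fun m => by rw [hE]; rfl⟩
  refine ⟨⟨F, hinj, ?_, ?_, ?_, ?_, ?_⟩, rfl⟩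
  · intro x y hx hy hne hc g h1 h2
    obtain ⟨k, rfl, rfl⟩ := exists_pair_move hx hy hne hc
    have c1 := (Commute.conj_iff (F k)⁻¹).2 h1
    have c2 := (Commute.conj_iff (F k)⁻¹).2 h2
    rw [inv_inv, map_mul, map_mul, map_inv, conj_cancel] at c1 c2
    obtain ⟨m, hm⟩ := hpair0 _ c1 c2
    exact ⟨k * m * k⁻¹, by rw [map_mul, map_mul, map_inv, hm]; group⟩
  · intro x y hx hy hne hc
    obtain ⟨k, rfl, rfl⟩ := exists_pair_move hx hy hne hc
    set N' := centralizer ({k * fj * k⁻¹, k * fa * k⁻¹} : Set Cfsg.Spor.Fi23)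
    intro α
    have hup : ∀ m : ↥Nja, k * (m : Cfsg.Spor.Fi23) * k⁻¹ ∈ N' := fun m =>
      mem_pair.2 ⟨(Commute.conj_iff k).2 (mem_pair.1 m.2).1, (Commute.conj_iff k).2 (mem_pair.1 m.2).2⟩
    have hdown : ∀ m : ↥N', k⁻¹ * (m : Cfsg.Spor.Fi23) * k ∈ Nja := fun m => by
      have h1 := (Commute.conj_iff k⁻¹).2 (mem_pair.1 m.2).1
      have h2 := (Commute.conj_iff k⁻¹).2 (mem_pair.1 m.2).2
      rw [inv_inv, conj_cancel] at h1 h2
      exact mem_pair.2 ⟨h1, h2⟩
    let e : ↥Nja ≃* ↥N' :=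
      { toFun := fun m => ⟨_, hup m⟩
        invFun := fun m => ⟨_, hdown m⟩
        left_inv := fun m => Subtype.ext (conj_cancel k m)
        right_inv := fun m => Subtype.ext (by
          show k * (k⁻¹ * (m : Cfsg.Spor.Fi23) * k) * k⁻¹ = m
          group)
        map_mul' := fun m n => Subtype.ext (by
          show k * ((m : Cfsg.Spor.Fi23) * n) * k⁻¹ = k * m * k⁻¹ * (k * n * k⁻¹)
          group) }
    obtain ⟨w, hw⟩ := hext0 (e.trans (α.trans e.symm))
    refine ⟨F k * w * (F k)⁻¹, fun m => ?_⟩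
    obtain ⟨n, rfl⟩ := e.surjective m
    have h := hw n
    calc F k * w * (F k)⁻¹ * F (e n : Cfsg.Spor.Fi23) * (F k * w * (F k)⁻¹)⁻¹
        = F k * (w * F (n : Cfsg.Spor.Fi23) * w⁻¹) * (F k)⁻¹ := by
          show _ * F (k * (n : Cfsg.Spor.Fi23) * k⁻¹) * _ = _
          rw [map_mul, map_mul, map_inv]; group
      _ = F (k * (k⁻¹ * ((α (e n) : ↥N') : Cfsg.Spor.Fi23) * k) * k⁻¹) := by
          rw [h, map_mul, map_mul, map_inv]; rfl
      _ = _ := by congr 1; group
  · obtain ⟨k, hk⟩ := setup23.cls (fiGen_mem (g := 7) (by norm_num)) (show Fi23P.eltT ∈ Fi23P.transp from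
      mem_conjugatesOf_self)
    rw [← hk]
    have e1 : centralizer ({k * fj * k⁻¹} : Set Cfsg.Spor.Fi23) = Mj.map (MulAut.conj k).toMonoidHom := by
      ext m
      rw [Subgroup.mem_map_equiv, MulAut.conj_symm_apply, mem_one, mem_one, ← Commute.conj_iff k⁻¹, inv_inv,
        conj_cancel]
    have e2 : centralizer ({F (k * fj * k⁻¹)} : Set G) = C.map (MulAut.conj (F k)).toMonoidHom := by
      ext m
      rw [Subgroup.mem_map_equiv, MulAut.conj_symm_apply, mem_one, mem_one, ← Commute.conj_iff (F k)⁻¹, inv_inv,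
        map_mul, map_mul, map_inv, conj_cancel, hFj]
    have e3 : (Mj.map (MulAut.conj k).toMonoidHom).map F = (Mj.map F).map (MulAut.conj (F k)).toMonoidHom := by
      rw [Subgroup.map_map, Subgroup.map_map]
      congr 1
      ext m
      simp
    rw [e1, e2, e3, Subgroup.relIndex_map_map_of_injective _ _ (MulEquiv.injective _), heq]
    exact S.index
  · obtain ⟨k, hk⟩ := setup23.cls (fiGen_mem (g := 7) (by norm_num)) (show Fi23P.eltT ∈ Fi23P.transp from
      mem_conjugatesOf_self)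
    rw [← hk, map_mul, map_mul, map_inv, hFj]
    exact fun h => S.not_z (h.trans (isConj_iff.2 ⟨(F k)⁻¹, by group; rfl⟩))
  · obtain ⟨k, hk⟩ := setup23.cls (fiGen_mem (g := 7) (by norm_num)) (show Fi23P.eltT ∈ Fi23P.transp from
      mem_conjugatesOf_self)
    refine ⟨F k * z * (F k)⁻¹, isConj_iff.2 ⟨F k, rfl⟩, ?_⟩
    rw [← hk, map_mul, map_mul, map_inv, hFj]
    exact (Commute.conj_iff (F k)).2 S.commute_z

end Start

end CfsgLib.LargeFischer.Prime
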