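import Cfsg.Agent.Lib.LargeFischer.Prime.Cover
import Cfsg.Agent.Lib.Fi22P.U6
import Cfsg.Agent.Lib.ThreeTransp.M22Order
import Cfsg.Agent.S2603

/-!
# The four-group with centraliser covering `PSU(6, 2)`: all automorphisms are inner from the normaliser
-/

set_option autoImplicit false
set_option linter.style.haveILetI false
set_option linter.unusedSectionVars false
set_option linter.unusedFintypeInType false

namespace CfsgLib.LargeFischer.Prime

open Subgroup

/-- Automorphisms of a perfect group are determined modulo the centre. -/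
theorem aut_rigid {C : Type*} [Group C] (hC : commutator C = ⊤) {β γ : MulAut C}
    (h : ∀ c, (γ c)⁻¹ * β c ∈ center C) : β = γ := by
  let δ : C →* ↥(center C) := MonoidHom.mk' (fun c => ⟨(γ c)⁻¹ * β c, h c⟩) fun a b => Subtype.ext (by
    show (γ (a * b))⁻¹ * β (a * b) = (γ a)⁻¹ * β a * ((γ b)⁻¹ * β b)
    rw [map_mul, map_mul, mul_inv_rev]
    calc (γ b)⁻¹ * (γ a)⁻¹ * (β a * β b) = (γ b)⁻¹ * ((γ a)⁻¹ * β a) * β b := by group
      _ = (γ a)⁻¹ * β a * (γ b)⁻¹ * β b := by rw [mem_center_iff.1 (h a) (γ b)⁻¹]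
      _ = _ := by group)
  have hk : commutator C ≤ δ.ker := by
    rw [_root_.commutator_def, Subgroup.commutator_le]
    intro a _ b _
    rw [MonoidHom.mem_ker, map_commutatorElement, commutatorElement_eq_one_iff_mul_comm]
    exact Subtype.ext (mem_center_iff.1 (δ b).2 _)
  refine MulEquiv.ext fun c => ?_
  have h1 : δ c = 1 := MonoidHom.mem_ker.1 (hk (hC ▸ mem_top c))
  exact (inv_mul_eq_one.1 (congrArg Subtype.val h1)).symm

/-- The automorphism group is at most that of the central quotient. -/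
theorem card_aut_le {C : Type*} [Group C] [Finite C] (hC : commutator C = ⊤) {P : Type*} [Group P] [Finite P]
    (e : C ⧸ center C ≃* P) : Nat.card (MulAut C) ≤ Nat.card (MulAut P) := by
  haveI : Finite (MulAut P) :=
    Finite.of_injective (fun a : MulAut P => (a : P → P)) DFunLike.coe_injective
  let R : MulAut C → MulAut P := fun β => (e.symm.trans (QuotientGroup.congr (center C) (center C) β
    (Subgroup.characteristic_iff_map_eq.1 inferInstance β))).trans e
  refine Nat.card_le_card_of_injective R fun β γ h => aut_rigid hC fun c => ?_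
  have h1 := congrArg (fun r : MulAut P => e.symm (r (e (QuotientGroup.mk c)))) h
  simp only [R, MulEquiv.trans_apply, MulEquiv.symm_apply_apply] at h1
  exact QuotientGroup.eq.1 h1.symm

/-- The automorphism group of `PSU(6, 2)` is at most six times the group. -/
theorem card_aut_psu {K : Type} [Field K] [Fintype K] (hK : Fintype.card K = 4) :
    Nat.card (MulAut (Cfsg.PSU 6 K 2)) ≤ 6 * Nat.card (Cfsg.PSU 6 K 2) := by
  haveI : Fact (Nat.Prime 2) := ⟨Nat.prime_two⟩
  obtain ⟨φ, hs, -, hk⟩ := Cfsg.Agent.S2603.result (K := K) (p := 2) (f := 1) (q := 2) (n := 6) le_rfl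
    (by norm_num) (by rw [hK]; norm_num) (by norm_num) (by norm_num)
  haveI : Finite (MulAut (Cfsg.PSU 6 K 2)) :=
    Finite.of_injective (fun a : MulAut (Cfsg.PSU 6 K 2) => (a : Cfsg.PSU 6 K 2 → Cfsg.PSU 6 K 2))
      DFunLike.coe_injective
  have hout : Nat.card (Cfsg.Out (Cfsg.PSU 6 K 2)) = 6 := by
    rw [← φ.ker.card_mul_index, index_ker, MonoidHom.range_eq_top.2 hs, card_top, hk,
      Nat.card_congr Multiplicative.toAdd, Nat.card_zmod]
    rfl
  rw [card_eq_card_quotient_mul_card_subgroup (Cfsg.Inn (Cfsg.PSU 6 K 2)),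
    show Nat.card (MulAut (Cfsg.PSU 6 K 2) ⧸ Cfsg.Inn (Cfsg.PSU 6 K 2)) = 6 from hout]
  exact Nat.mul_le_mul_left _ (Nat.card_le_card_of_surjective _
    (MonoidHom.rangeRestrict_surjective (MulAut.conj : Cfsg.PSU 6 K 2 →* MulAut (Cfsg.PSU 6 K 2))))

variable {G : Type*} [Group G] [Finite G] {E : Subgroup G}

/-- An element of a four-group is one of its four elements. -/
theorem four_cases (hcard : Nat.card E = 4) {a b : G} (ha : a ∈ E) (hb : b ∈ E) (ha1 : a ≠ 1) (hb1 : b ≠ 1)
    (hab : a ≠ b) (hsq : a * a = 1) {e : G} (he : e ∈ E) : e = 1 ∨ e = a ∨ e = b ∨ e = a * b := by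
  classical
  have h3 : a * b ≠ 1 := fun h => hab (by
    calc a = a * (a * b) := by rw [h, mul_one]
      _ = b := by rw [← mul_assoc, hsq, one_mul])
  have hsub : ({1, a, b, a * b} : Finset G) ⊆ (Set.toFinite (E : Set G)).toFinset := fun x hx => by
    simp only [Finset.mem_insert, Finset.mem_singleton] at hx
    rw [Set.Finite.mem_toFinset]
    rcases hx with rfl | rfl | rfl | rfl
    exacts [E.one_mem, ha, hb, E.mul_mem ha hb]
  have hc : ({1, a, b, a * b} : Finset G).card = 4 := by
    rw [Finset.card_insert_of_notMem, Finset.card_insert_of_notMem, Finset.card_pair]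
    · exact fun h => ha1 (mul_eq_right.1 h.symm)
    · simp only [Finset.mem_insert, Finset.mem_singleton, not_or]
      exact ⟨hab, fun h => hb1 (mul_eq_left.1 h.symm)⟩
    · simp only [Finset.mem_insert, Finset.mem_singleton, not_or]
      exact ⟨fun h => ha1 h.symm, fun h => hb1 h.symm, fun h => h3 h.symm⟩
  have heq := Finset.eq_of_subset_of_card_le hsub (by
    rw [hc, ← Nat.card_eq_card_finite_toFinset]
    exact hcard.le)
  have : e ∈ ({1, a, b, a * b} : Finset G) := by rw [heq, Set.Finite.mem_toFinset]; exact he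
  simpa using this

/-- All automorphisms of the centraliser are conjugations by elements normalising the four-group. -/
theorem exists_conj_aut (hcard : Nat.card E = 4) (hcomm : ∀ a ∈ E, ∀ b ∈ E, a * b = b * a)
    (hsq : ∀ a ∈ E, a * a = 1)
    (hcen : center ↥(centralizer (E : Set G)) = E.subgroupOf (centralizer (E : Set G)))
    (haut : Nat.card (MulAut ↥(centralizer (E : Set G))) ≤
      6 * Nat.card (↥(centralizer (E : Set G)) ⧸ center ↥(centralizer (E : Set G))))
    {t x : G} (ht : t ∈ E) (hx : x ∈ E) (ht1 : t ≠ 1) (hx1 : x ≠ 1) (htx : t ≠ x)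
    {s : G} (hst : s * t * s⁻¹ = t) (hsx : s * x * s⁻¹ = x * t)
    {r : G} (hrx : r * x * r⁻¹ = x) (hrt : r * t * r⁻¹ = t * x)
    :
    ∀ β : MulAut ↥(centralizer (E : Set G)), ∃ w : G, ∀ c : ↥(centralizer (E : Set G)), w * (c : G) * w⁻¹ = (β c : G) := by
  classical
  set C := centralizer (E : Set G) with hCdef
  have hall : ∀ g : G, g * t = t * g → g * x = x * g → g ∈ C := fun g h1 h2 => by
    refine mem_centralizer_iff.2 fun e he => ?_
    rcases four_cases hcard ht hx ht1 hx1 htx (hsq t ht) he with rfl | rfl | rfl | rfl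
    · rw [one_mul, mul_one]
    · exact h1.symm
    · exact h2.symm
    · calc t * x * g = t * (g * x) := by rw [mul_assoc, h2]
        _ = g * (t * x) := by rw [← mul_assoc, ← h1, mul_assoc]
  -- elements sending both generators into the four-group normalise it
  have hnorm : ∀ g : G, g * t * g⁻¹ ∈ E → g * x * g⁻¹ ∈ E → g ∈ normalizer (E : Set G) := by
    intro g h1 h2
    have hle : E.map (MulAut.conj g).toMonoidHom ≤ E := by
      rintro _ ⟨e, he, rfl⟩
      show g * e * g⁻¹ ∈ E
      rcases four_cases hcard ht hx ht1 hx1 htx (hsq t ht) he with rfl | rfl | rfl | rfl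
      · simp
      · exact h1
      · exact h2
      · have := E.mul_mem h1 h2
        rwa [show g * t * g⁻¹ * (g * x * g⁻¹) = g * (t * x) * g⁻¹ by group] at this
    have heq := Subgroup.eq_of_le_of_card_ge hle
      (by rw [Subgroup.card_map_of_injective (MulAut.conj g).injective])
    rw [mem_normalizer_iff]
    intro e
    refine ⟨fun he => hle ⟨e, he, rfl⟩, fun he => ?_⟩
    obtain ⟨e', he', h⟩ := heq.ge he
    rwa [← (MulAut.conj g).injective h]
  set N := normalizer (E : Set G) with hN
  have hCN : ∀ c ∈ C, c ∈ N := fun c hc => by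
    refine hnorm c ?_ ?_
    · rw [← mem_centralizer_iff.1 hc t ht, mul_inv_cancel_right]; exact ht
    · rw [← mem_centralizer_iff.1 hc x hx, mul_inv_cancel_right]; exact hx
  have hconj : ∀ w ∈ N, ∀ c ∈ C, w * c * w⁻¹ ∈ C := fun w hw c hc => by
    refine mem_centralizer_iff.2 fun e he => ?_
    have he' : w⁻¹ * e * w ∈ E := by
      have := (mem_normalizer_iff.1 (N.inv_mem hw) e).1 he
      rwa [inv_inv] at this
    calc e * (w * c * w⁻¹) = w * ((w⁻¹ * e * w) * c) * w⁻¹ := by group
      _ = w * (c * (w⁻¹ * e * w)) * w⁻¹ := by rw [mem_centralizer_iff.1 hc _ he']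
      _ = _ := by group
  let Γ₀ : ↥N → MulAut ↥C := fun w =>
    { toFun := fun c => ⟨(w : G) * c * (w : G)⁻¹, hconj w w.2 c c.2⟩
      invFun := fun c => ⟨(w : G)⁻¹ * c * ((w : G)⁻¹)⁻¹, hconj _ (N.inv_mem w.2) c c.2⟩
      left_inv := fun c => Subtype.ext (by simp [mul_assoc])
      right_inv := fun c => Subtype.ext (by simp [mul_assoc])
      map_mul' := fun a b => Subtype.ext (by simp [mul_assoc]) }
  let Γ : ↥N →* MulAut ↥C := MonoidHom.mk' Γ₀ fun a b => MulEquiv.ext fun c => Subtype.ext (by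
    show ((a * b : ↥N) : G) * c * ((a * b : ↥N) : G)⁻¹ = (a : G) * ((b : G) * c * (b : G)⁻¹) * (a : G)⁻¹
    simp [mul_assoc])
  have hΓ : ∀ w c, ((Γ w c : ↥C) : G) = (w : G) * c * (w : G)⁻¹ := fun w c => rfl
  have hEC : ∀ e ∈ E, e ∈ C := fun e he => mem_centralizer_iff.2 fun a ha => hcomm a ha e he
  haveI : Finite (MulAut ↥C) := Finite.of_injective (fun a : MulAut ↥C => (a : ↥C → ↥C)) DFunLike.coe_injective
  have hker : Nat.card Γ.ker ≤ Nat.card E := by
    have hk : ∀ w : ↥Γ.ker, ((w : ↥N) : G) ∈ E := fun w => by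
      have h1 : ∀ c ∈ C, ((w : ↥N) : G) * c = c * ((w : ↥N) : G) := fun c hc => by
        have h := congrArg (fun b : MulAut ↥C => ((b ⟨c, hc⟩ : ↥C) : G)) (MonoidHom.mem_ker.1 w.2)
        exact mul_inv_eq_iff_eq_mul.1 h
      have hwC : ((w : ↥N) : G) ∈ C := hall _ (h1 t (hEC t ht)) (h1 x (hEC x hx))
      have h2 : (⟨_, hwC⟩ : ↥C) ∈ center ↥C := mem_center_iff.2 fun g => Subtype.ext (h1 g g.2).symm
      rw [hcen] at h2
      exact h2
    exact Nat.card_le_card_of_injective (fun w => (⟨_, hk w⟩ : ↥E))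
      fun a b h => Subtype.ext (Subtype.ext (congrArg (fun e : ↥E => (e : G)) h))
  -- six cosets of the centraliser in the normaliser
  have hxt : x * t = t * x := hcomm x hx t ht
  have e4 : s * (t * x) * s⁻¹ = x := by
    calc s * (t * x) * s⁻¹ = s * t * s⁻¹ * (s * x * s⁻¹) := by group
      _ = t * t * x := by rw [hst, hsx, hxt, mul_assoc]
      _ = x := by rw [hsq t ht, one_mul]
  have e5 : r * (x * t) * r⁻¹ = t := by
    calc r * (x * t) * r⁻¹ = r * x * r⁻¹ * (r * t * r⁻¹) := by group
      _ = x * x * t := by rw [hrx, hrt, ← hxt, mul_assoc]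
      _ = t := by rw [hsq x hx, one_mul]
  let W : Fin 6 → G := ![1, s, r, r * s, s * r, s * r * s]
  let T : Fin 6 → G × G := ![(t, x), (t, x * t), (t * x, x), (t * x, t), (x, x * t), (x, t)]
  have hWT : ∀ i, W i * t * (W i)⁻¹ = (T i).1 ∧ W i * x * (W i)⁻¹ = (T i).2 := by
    intro i
    fin_cases i
    · simp [W, T]
    · exact ⟨hst, hsx⟩
    · exact ⟨hrt, hrx⟩
    · refine ⟨?_, ?_⟩
      · show r * s * t * (r * s)⁻¹ = t * x
        rw [show r * s * t * (r * s)⁻¹ = r * (s * t * s⁻¹) * r⁻¹ by group, hst, hrt]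
      · show r * s * x * (r * s)⁻¹ = t
        rw [show r * s * x * (r * s)⁻¹ = r * (s * x * s⁻¹) * r⁻¹ by group, hsx, e5]
    · refine ⟨?_, ?_⟩
      · show s * r * t * (s * r)⁻¹ = x
        rw [show s * r * t * (s * r)⁻¹ = s * (r * t * r⁻¹) * s⁻¹ by group, hrt, e4]
      · show s * r * x * (s * r)⁻¹ = x * t
        rw [show s * r * x * (s * r)⁻¹ = s * (r * x * r⁻¹) * s⁻¹ by group, hrx, hsx]
    · refine ⟨?_, ?_⟩
      · show s * r * s * t * (s * r * s)⁻¹ = x
        rw [show s * r * s * t * (s * r * s)⁻¹ = s * (r * (s * t * s⁻¹) * r⁻¹) * s⁻¹ by group, hst, hrt, e4]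
      · show s * r * s * x * (s * r * s)⁻¹ = t
        rw [show s * r * s * x * (s * r * s)⁻¹ = s * (r * (s * x * s⁻¹) * r⁻¹) * s⁻¹ by group, hsx, e5, hst]
  have hTE : ∀ i, (T i).1 ∈ E ∧ (T i).2 ∈ E := by
    intro i
    fin_cases i <;> exact ⟨by first | exact ht | exact hx | exact E.mul_mem ht hx,
      by first | exact ht | exact hx | exact E.mul_mem hx ht⟩
  have hTinj : Function.Injective T := by
    have a1 : t * x ≠ t := fun h => hx1 (mul_eq_left.1 h)
    have a2 : t * x ≠ x := fun h => ht1 (mul_eq_right.1 h)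
    have a3 : x * t ≠ t := fun h => hx1 (mul_eq_right.1 h)
    have a4 : x * t ≠ x := fun h => ht1 (mul_eq_left.1 h)
    intro i j h
    have h1 := congrArg Prod.fst h
    have h2 := congrArg Prod.snd h
    fin_cases i <;> fin_cases j <;>
      first
      | rfl
      | exact absurd h1 htx
      | exact absurd h1.symm htx
      | exact absurd h1 a1
      | exact absurd h1.symm a1
      | exact absurd h1 a2
      | exact absurd h1.symm a2
      | exact absurd h2 htx
      | exact absurd h2.symm htx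
      | exact absurd h2 a3
      | exact absurd h2.symm a3
      | exact absurd h2 a4
      | exact absurd h2.symm a4
  have hcardN : 6 * Nat.card C ≤ Nat.card N := by
    let m : Fin 6 × ↥C → ↥N := fun p => ⟨W p.1 * (p.2 : G),
      N.mul_mem (hnorm _ ((hWT p.1).1 ▸ (hTE p.1).1) ((hWT p.1).2 ▸ (hTE p.1).2)) (hCN _ p.2.2)⟩
    have hm : Function.Injective m := by
      rintro ⟨i, c⟩ ⟨j, d⟩ h
      have h' : W i * (c : G) = W j * (d : G) := congrArg Subtype.val h
      have key : ∀ e ∈ E, W i * e * (W i)⁻¹ = W j * e * (W j)⁻¹ := fun e he => by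
        calc W i * e * (W i)⁻¹ = W i * ((c : G) * e * (c : G)⁻¹) * (W i)⁻¹ := by
              rw [← mem_centralizer_iff.1 c.2 e he, mul_inv_cancel_right]
          _ = W i * (c : G) * e * (W i * (c : G))⁻¹ := by group
          _ = W j * ((d : G) * e * (d : G)⁻¹) * (W j)⁻¹ := by rw [h']; group
          _ = _ := by rw [← mem_centralizer_iff.1 d.2 e he, mul_inv_cancel_right]
      have hij : i = j := hTinj (Prod.ext (by rw [← (hWT i).1, ← (hWT j).1, key t ht])
        (by rw [← (hWT i).2, ← (hWT j).2, key x hx]))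
      subst hij
      rw [mul_left_cancel_iff] at h'
      rw [Subtype.ext h']
    have := Nat.card_le_card_of_injective m hm
    rwa [Nat.card_prod, Nat.card_fin] at this
  have hrange : Γ.range = ⊤ := by
    refine Subgroup.eq_top_of_le_card _ (haut.trans ?_)
    have h1 := Γ.ker.card_mul_index
    rw [index_ker] at h1
    have h2 := card_eq_card_quotient_mul_card_subgroup (center ↥C)
    rw [hcen, Nat.card_congr (Subgroup.subgroupOfEquivOfLe hEC).toEquiv] at h2
    rw [hcen]
    have h3 : 6 * Nat.card (↥C ⧸ E.subgroupOf C) * Nat.card E ≤ Nat.card Γ.range * Nat.card E :=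
      calc _ = 6 * Nat.card C := by rw [mul_assoc, ← h2]
        _ ≤ Nat.card Γ.ker * Nat.card Γ.range := hcardN.trans h1.ge
        _ ≤ Nat.card E * Nat.card Γ.range := Nat.mul_le_mul_right _ hker
        _ = _ := mul_comm _ _
    exact Nat.le_of_mul_le_mul_right h3 (by rw [hcard]; norm_num)
  intro β
  obtain ⟨w, hw⟩ := (hrange ▸ mem_top β : β ∈ Γ.range)
  exact ⟨w, fun c => (hΓ w c).symm.trans (congrArg (fun a : MulAut ↥C => ((a c : ↥C) : G)) hw)⟩

end CfsgLib.LargeFischer.Prime
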