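import Cfsg.Agent.Lib.LargeFischer.Prime.Pi
import Cfsg.Agent.Lib.LargeFischer.Prime.Four
import Cfsg.Agent.Lib.LargeFischer.Ext.Exists
import Cfsg.Agent.Lib.LargeFischer.Ext.Whole
import Cfsg.Agent.S5449

/-!
# The starting model: the centraliser of a generator of `Fi23` inside a group of large Fischer type
-/

set_option autoImplicit false
set_option maxRecDepth 100000
set_option linter.style.haveILetI false
set_option linter.unusedSectionVars false
set_option linter.unusedFintypeInType false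

namespace CfsgLib.LargeFischer.Prime

open Subgroup
open CfsgLib.LargeFischer.Outer (Fi)

attribute [local irreducible] Fi23P.relShort Fi23P.levels Fi23P.wordA Fi23P.baseL

/-- The centraliser of the generator `j`. -/
abbrev centJ : Subgroup Cfsg.Spor.Fi23 := centralizer ({Fi23P.fiGen 7} : Set Cfsg.Spor.Fi23)

/-- The centraliser of the generators `j` and `a`. -/
abbrev centJA : Subgroup Cfsg.Spor.Fi23 :=
  centralizer ({Fi23P.fiGen 7, Fi23P.fiGen 0} : Set Cfsg.Spor.Fi23)

/-- The generator `j` in its centraliser. -/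
def genJ : ↥centJ := ⟨Fi23P.fiGen 7, mem_centralizer_singleton_iff.2 rfl⟩

/-- The generator `a` in the centraliser of `j`. -/
def genA : ↥centJ := ⟨Fi23P.fiGen 0, mem_centralizer_singleton_iff.2 seven_commute.symm.eq⟩

/-- The inclusion of the centraliser of the pair. -/
def inclJA : ↥centJA →* ↥centJ :=
  Subgroup.inclusion (centralizer_le (Set.singleton_subset_iff.2 (Set.mem_insert _ _)))

/-- An embedding of the centraliser of `j` with image of index two in the centraliser of the image of `j`, to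
whose restriction every automorphism of the centraliser of the pair extends by conjugation. -/
structure Start {G : Type*} [Group G] (z : G) where
  θ : ↥centJ →* G
  inj : Function.Injective θ
  le : θ.range ≤ centralizer ({θ genJ} : Set G)
  pair : ∀ g : G, Commute g (θ genJ) → Commute g (θ genA) → ∃ m, θ m = g
  index : (θ.range.subgroupOf (centralizer ({θ genJ} : Set G))).index = 2
  not_z : ¬ IsConj z (θ genJ)
  commute_z : Commute z (θ genJ)
  extend : ∀ α : MulAut ↥centJA, ∃ w : G, ∀ m : ↥centJA, w * θ (inclJA m) * w⁻¹ = θ (inclJA (α m))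

variable {G : Type*} [Group G] [Finite G]

/-- The order of the centraliser of a non-`z` involution is not that of a `z`. -/
theorem not_conj_of_eleven (z : G) (Q : Subgroup (centralizer ({z} : Set G))) [Q.Normal]
    (hF : Cfsg.IsOfLargeFischerTypeAt z Q) {h e : G} (hh : orderOf h = 11) (he : Commute h e) :
    ¬ IsConj z e := by
  intro hc
  obtain ⟨g, hg⟩ := isConj_iff.1 hc.symm
  obtain ⟨⟨-, -, -, hQc, -⟩, N, M, nN, -, -, hNM, hcN, ⟨K, jK, jK', hK, ee⟩, hM⟩ := hF
  haveI := nN
  have hX := Ext.shape_card hNM (by rw [hcN, hQc]) hK ee hM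
  have hm : g * h * g⁻¹ ∈ centralizer ({z} : Set G) := mem_centralizer_singleton_iff.2 (by
    rw [← hg]
    calc g * h * g⁻¹ * (g * e * g⁻¹) = g * (h * e) * g⁻¹ := by group
      _ = g * (e * h) * g⁻¹ := by rw [he.eq]
      _ = _ := by group)
  have := orderOf_dvd_natCard (⟨_, hm⟩ : ↥(centralizer ({z} : Set G)))
  rw [Subgroup.orderOf_mk, ← MulAut.conj_apply, MulEquiv.orderOf_eq, hh, hX] at this
  norm_num at this

theorem exists_start (z : G) (Q : Subgroup (centralizer ({z} : Set G))) [Q.Normal]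
    (hF : Cfsg.IsOfLargeFischerTypeAt z Q) : Nonempty (Start z) := by
  classical
  haveI := Fi23P.card_fi.1
  haveI := Fi22P.card_fi.1
  obtain ⟨E, hEQ, hel, hcard, -, ⟨t, htE, htord, htz⟩, hqs, hn, K, iK, iK', hK, ⟨eP⟩⟩ :=
    Cfsg.Agent.S5449.result z Q hF
  haveI := hn
  have hsq : ∀ a ∈ E, a * a = 1 := fun a ha => by rw [← pow_two]; exact hel.2 a ha
  have hcomm : ∀ a ∈ E, ∀ b ∈ E, a * b = b * a := fun a ha b hb => by
    haveI := hel.1
    exact congrArg Subtype.val (mul_comm' (⟨a, ha⟩ : ↥E) ⟨b, hb⟩)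
  have hperf : commutator ↥(centralizer (E : Set G)) = ⊤ := hqs.1.commutator_eq_top
  have hEC : ∀ e ∈ E, e ∈ centralizer (E : Set G) := fun e he =>
    mem_centralizer_iff.2 fun a ha => hcomm a ha e he
  have hCe : ∀ e ∈ E, ∀ g ∈ centralizer (E : Set G), g * e = e * g := fun e he g hg =>
    (mem_centralizer_iff.1 hg e he).symm
  have hcardC : Nat.card ↥(centralizer (E : Set G)) = Nat.card (Cfsg.PSU 6 K 2) * 4 := by
    rw [card_eq_card_quotient_mul_card_subgroup (E.subgroupOf (centralizer (E : Set G))),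
      Nat.card_congr eP.toEquiv, Nat.card_congr (Subgroup.subgroupOfEquivOfLe hEC).toEquiv, hcard]
  obtain ⟨h, hh11, hhC⟩ : ∃ h : G, orderOf h = 11 ∧ h ∈ centralizer (E : Set G) := by
    haveI : Fact (Nat.Prime 11) := ⟨by norm_num⟩
    obtain ⟨h, hh⟩ := exists_prime_orderOf_dvd_card' (G := ↥(centralizer (E : Set G))) 11 (by
      rw [hcardC, M22.card_psu (F := K) (by rw [hK]; norm_num)]
      norm_num)
    exact ⟨h, by rw [Subgroup.orderOf_coe, hh], h.2⟩
  have hnotz : ∀ e ∈ E, ¬ IsConj z e := fun e he => not_conj_of_eleven z Q hF hh11 (hCe e he h hhC)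
  have hfi : ∀ e ∈ E, e ≠ 1 → Nonempty (Fi e) := fun e he he1 => by
    refine Ext.hcov_of z Q hF e ?_ (orderOf_eq_prime (hel.2 e he) he1) (hnotz e he)
    obtain ⟨⟨q, hq⟩, hqQ, rfl⟩ := hEQ he
    exact ⟨hq, hqQ⟩
  have hall : ∀ a b : G, a ∈ E → b ∈ E → a ≠ 1 → b ≠ 1 → a ≠ b →
      ∀ g, g * a = a * g → g * b = b * g → g ∈ centralizer (E : Set G) := by
    intro a b ha hb ha1 hb1 hab g h1 h2
    refine mem_centralizer_iff.2 fun e he => ?_
    rcases four_cases hcard ha hb ha1 hb1 hab (hsq a ha) he with rfl | rfl | rfl | rfl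
    · rw [one_mul, mul_one]
    · exact h1.symm
    · exact h2.symm
    · calc a * b * g = a * (g * b) := by rw [mul_assoc, h2]
        _ = g * (a * b) := by rw [← mul_assoc, ← h1, mul_assoc]
  have ht1 : t ≠ 1 := fun e => by rw [e, orderOf_one] at htord; norm_num at htord
  obtain ⟨x₀, hx₀E, hx₀1, hx₀t⟩ : ∃ x ∈ E, x ≠ 1 ∧ x ≠ t := by
    by_contra hno
    simp only [not_exists, not_and, not_not] at hno
    have hsub : (E : Set G) ⊆ {1, t} := fun e he => by
      by_cases h1 : e = 1
      · exact .inl h1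
      · exact .inr (hno e he h1)
    have := Set.ncard_le_ncard hsub (Set.toFinite _)
    rw [← Nat.card_coe_set_eq, SetLike.coe_sort_coe, hcard] at this
    have h2 : ({1, t} : Set G).ncard ≤ 2 := (Set.ncard_insert_le _ _).trans (by rw [Set.ncard_singleton])
    omega
  obtain ⟨F⟩ := hfi t htE ht1
  have ht2 := hsq t htE
  -- the embedding
  obtain ⟨π, hπs, hπc, hπ2, hπj, hπa, hMperf⟩ := exists_pi
  have htC : t ∈ centralizer ({t} : Set G) := mem_centralizer_singleton_iff.2 rfl
  set kt : ↥F.K := ⟨⟨t, htC⟩, F.t_mem _ (mem_zpowers t)⟩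
  have hker : F.ι.ker = zpowers kt := by
    refine le_antisymm (fun k hk => ?_) (zpowers_le.2 ((F.ker kt).2 (mem_zpowers t)))
    rcases zpowers_two ht2 ((F.ker k).1 hk) with e | e
    · rw [show k = 1 from Subtype.ext (Subtype.ext e)]; exact one_mem _
    · rw [show k = kt from Subtype.ext (Subtype.ext e)]; exact mem_zpowers _
  have hkt : orderOf kt = 2 := by
    rw [← Subgroup.orderOf_coe, ← Subgroup.orderOf_coe]
    exact htord
  have hKc : F.ι.ker ≤ center ↥F.K := by
    rw [hker, zpowers_le, mem_center_iff]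
    exact fun g => Subtype.ext (Subtype.ext (mem_centralizer_singleton_iff.1 (g : ↥(centralizer ({t} : Set G))).2))
  obtain ⟨e, he⟩ := double_iso π F.ι hπs F.surj hπc hKc hπ2 (by rw [hker, Nat.card_zpowers, hkt]) hMperf
    F.quasi.1.commutator_eq_top
  have hct : ∀ g ∈ centralizer (E : Set G), g * t = t * g := fun g hg => hCe t htE g hg
  obtain ⟨c, hc⟩ := iota_transp F ht2 (hsq x₀ hx₀E) (hcomm x₀ hx₀E t htE) hx₀1 hx₀t hperf hct (hEC x₀ hx₀E)
    hhC hh11 (hCe x₀ hx₀E h hhC)
  obtain ⟨m₀, hm₀⟩ := hπs c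
  let θ : ↥centJ →* G := (centralizer ({t} : Set G)).subtype.comp
    (F.K.subtype.comp (e.toMonoidHom.comp (MulAut.conj m₀).toMonoidHom))
  have hθi : Function.Injective θ := Subtype.val_injective.comp (Subtype.val_injective.comp
    (e.injective.comp (MulAut.conj m₀).injective))
  have hιθ : ∀ m, F.ι (e (MulAut.conj m₀ m)) = c * π m * c⁻¹ := fun m => by
    rw [he, MulAut.conj_apply, map_mul, map_mul, map_inv, hm₀]
  have hθK : ∀ k : ↥F.K, ∃ m, θ m = ((k : ↥(centralizer ({t} : Set G))) : G) := fun k =>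
    ⟨(MulAut.conj m₀).symm (e.symm k), by
      show ((e (MulAut.conj m₀ ((MulAut.conj m₀).symm (e.symm k))) : ↥(centralizer ({t} : Set G))) : G) = _
      rw [MulEquiv.apply_symm_apply, MulEquiv.apply_symm_apply]⟩
  have hj : θ genJ = t := by
    have h1 : F.ι (e (MulAut.conj m₀ genJ)) = 1 := by
      rw [hιθ, hπj genJ rfl, mul_one, mul_inv_cancel]
    refine (zpowers_two ht2 ((F.ker _).1 h1)).resolve_left fun h2 => gen_ne_one (i := 7) (by norm_num) ?_
    exact congrArg Subtype.val (hθi (h2.trans (map_one θ).symm) : genJ = 1)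
  have haE : θ genA ∈ E := by
    have h1 : F.ι (e (MulAut.conj m₀ genA)) =
        F.ι ⟨⟨x₀, mem_centralizer_singleton_iff.2 (hcomm x₀ hx₀E t htE)⟩, perfect_le F hperf hct (hEC x₀ hx₀E)⟩ := by
      rw [hιθ, hπa genA rfl, hc]
    rcases iota_eq F ht2 h1 with e1 | e1
    · exact (show θ genA = x₀ from e1) ▸ hx₀E
    · exact (show θ genA = x₀ * t from e1) ▸ E.mul_mem hx₀E htE
  set x := θ genA with hxdef
  have hx1 : x ≠ 1 := fun h1 => gen_ne_one (i := 0) (by norm_num)
    (congrArg Subtype.val (hθi (h1.trans (map_one θ).symm) : genA = 1))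
  have htx : t ≠ x := fun h1 => seven_ne_zero (congrArg Subtype.val (hθi (hj.trans h1) : genJ = genA))
  have hrange : ∀ g, g * t = t * g → g * x = x * g → ∃ m, θ m = g := fun g h1 h2 =>
    hθK ⟨_, perfect_le F hperf hct (hall t x htE haE ht1 hx1 htx g h1 h2)⟩
  refine ⟨⟨θ, hθi, ?_, fun g h1 h2 => hrange g (hj ▸ h1.eq) h2.eq, ?_, hj ▸ htz, ?_, fun α => ?_⟩⟩
  · rintro _ ⟨m, rfl⟩
    rw [hj]
    exact (e (MulAut.conj m₀ m) : ↥(centralizer ({t} : Set G))).2
  · rw [hj]
    have : θ.range.subgroupOf (centralizer ({t} : Set G)) = F.K := by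
      ext w
      rw [mem_subgroupOf]
      constructor
      · rintro ⟨m, hm⟩
        rw [← show ((e (MulAut.conj m₀ m) : ↥(centralizer ({t} : Set G)))) = w from Subtype.ext hm]
        exact (e (MulAut.conj m₀ m)).2
      · exact fun hw => hθK ⟨w, hw⟩
    rw [this, F.index]
  · rw [hj]
    obtain ⟨⟨q, hq⟩, -, hqt⟩ := hEQ htE
    rw [← hqt]
    exact (mem_centralizer_singleton_iff.1 hq).symm
  -- automorphisms of the centraliser of the pair
  have hmemC : ∀ m : ↥centJA, θ (inclJA m) ∈ centralizer (E : Set G) := fun m => by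
    refine hall t x htE haE ht1 hx1 htx _ ?_ ?_
    · rw [← hj, ← map_mul, ← map_mul]
      exact congrArg θ (Subtype.ext (mem_centralizer_iff.1 m.2 _ (Set.mem_insert _ _)).symm)
    · rw [hxdef, ← map_mul, ← map_mul]
      exact congrArg θ (Subtype.ext (mem_centralizer_iff.1 m.2 _ (Set.mem_insert_of_mem _ rfl)).symm)
  let ψ₀ : ↥centJA →* ↥(centralizer (E : Set G)) := (θ.comp inclJA).codRestrict _ hmemC
  have hψ : Function.Bijective ψ₀ := by
    refine ⟨fun m n h1 => Subtype.ext ?_, fun g => ?_⟩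
    · exact congrArg (fun w : ↥centJ => (w : Cfsg.Spor.Fi23)) (hθi (congrArg (fun w : ↥(centralizer (E : Set G)) => (w : G)) h1 : θ (inclJA m) = θ (inclJA n)))
    · obtain ⟨m, hm⟩ := hrange g (hct g g.2) (hCe x haE g g.2)
      have hm2 : (m : Cfsg.Spor.Fi23) ∈ centJA := by
        refine mem_centralizer_iff.2 fun a ha => ?_
        rcases ha with rfl | ha
        · exact congrArg Subtype.val (hθi (by
            rw [map_mul, map_mul, hj, hm]; exact (hct g g.2).symm) : genJ * m = m * genJ)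
        · rw [Set.mem_singleton_iff] at ha
          subst ha
          exact congrArg Subtype.val (hθi (by
            rw [map_mul, map_mul, ← hxdef, hm]; exact (hCe x haE g g.2).symm) : genA * m = m * genA)
      exact ⟨⟨m, hm2⟩, Subtype.ext hm⟩
  let ψ : ↥centJA ≃* ↥(centralizer (E : Set G)) := MulEquiv.ofBijective ψ₀ hψ
  have hcen : center ↥(centralizer (E : Set G)) = E.subgroupOf (centralizer (E : Set G)) := by
    refine le_antisymm (fun w hw => ?_) fun w hw => mem_center_iff.2 fun g => Subtype.ext (hCe w hw g g.2)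
    have h1 : eP (QuotientGroup.mk w) ∈ center (Cfsg.PSU 6 K 2) := mem_center_iff.2 fun p => by
      obtain ⟨g, rfl⟩ := eP.surjective p
      induction g using QuotientGroup.induction_on with | _ g => ?_
      rw [← map_mul, ← map_mul, ← QuotientGroup.mk_mul, ← QuotientGroup.mk_mul, mem_center_iff.1 hw g]
    have hF' : Fintype.card K = 4 := hK
    rw [Fi22P.center_psu_six hF', mem_bot, map_eq_one_iff eP eP.injective, QuotientGroup.eq_one_iff] at h1
    exact h1
  haveI : Finite (Cfsg.PSU 6 K 2) := Finite.of_equiv _ eP.toEquiv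
  have haut : Nat.card (MulAut ↥(centralizer (E : Set G))) ≤
      6 * Nat.card (↥(centralizer (E : Set G)) ⧸ center ↥(centralizer (E : Set G))) := by
    let e' := (QuotientGroup.quotientMulEquivOfEq hcen).trans eP
    rw [Nat.card_congr e'.toEquiv]
    exact (card_aut_le hperf e').trans (card_aut_psu hK)
  obtain ⟨s, hs1, hs2⟩ := exists_swap F ht2 (hsq x haE) (hcomm x haE t htE) hx1 (fun h1 => htx h1.symm) hperf hct
    (hall t x htE haE ht1 hx1 htx) (hEC x haE) hhC hh11 (hCe x haE h hhC)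
  obtain ⟨Fx⟩ := hfi x haE hx1
  obtain ⟨r, hr1, hr2⟩ := exists_swap Fx (hsq x haE) ht2 (hcomm t htE x haE) ht1 htx hperf (hCe x haE)
    (hall x t haE htE hx1 ht1 fun h1 => htx h1.symm) (hEC t htE) hhC hh11 (hCe t htE h hhC)
  obtain ⟨w, hw⟩ := exists_conj_aut hcard hcomm hsq hcen haut htE haE ht1 hx1 htx
    (by rw [hs1, mul_inv_cancel_right]) hs2 (by rw [hr1, mul_inv_cancel_right]) hr2
    (ψ.symm.trans ((α : ↥centJA ≃* ↥centJA).trans ψ))
  refine ⟨w, fun m => ?_⟩
  have h2 := hw (ψ m)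
  rw [MulEquiv.trans_apply, MulEquiv.trans_apply, ψ.symm_apply_apply] at h2
  exact h2

end CfsgLib.LargeFischer.Prime
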