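import Cfsg.Agent.Lib.LargeFischer.Prime.Model
import Cfsg.Agent.Lib.LargeFischer.Prime.Start
import Cfsg.Agent.Lib.Fi23P.Perm

/-!
# The presented group `Fi23` inside a group of large Fischer type

The centraliser of the end node gives every generator but `g`; the generator `g` comes from its transform by an
element exchanging `a` and `j`, and the remaining relation between `b` and `g` holds as both models agree on the
centraliser of `a` and `d` up to the conjugation by `j`.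
-/

set_option autoImplicit false
set_option maxRecDepth 100000
set_option maxHeartbeats 1000000
set_option linter.style.haveILetI false
set_option linter.unusedSectionVars false

namespace CfsgLib.LargeFischer.Prime

open CfsgLib.PresCert CfsgLib.Fi24P CfsgLib.Fi24P.ThreeT Subgroup
open Cfsg.Spor (coxLabel coxRelators)

attribute [local irreducible] relShort Fi23P.relShort Fi23P.levels Fi23P.wordA Fi23P.baseL

theorem mem_pair {M : Type*} [Group M] {x y m : M} :
    m ∈ centralizer ({x, y} : Set M) ↔ Commute m x ∧ Commute m y :=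
  ⟨fun h => ⟨(mem_centralizer_iff.1 h x (Set.mem_insert _ _)).symm,
      (mem_centralizer_iff.1 h y (Set.mem_insert_of_mem _ rfl)).symm⟩,
    fun h => mem_centralizer_iff.2 (by
      rintro w (rfl | rfl)
      exacts [h.1.eq.symm, h.2.eq.symm])⟩

theorem mem_one {M : Type*} [Group M] {x m : M} : m ∈ centralizer ({x} : Set M) ↔ Commute m x :=
  ⟨fun h => mem_centralizer_singleton_iff.1 h, fun h => mem_centralizer_singleton_iff.2 h.eq⟩

/-- The word of the exchange of `a` and `j`. -/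
def wordSwap : List ℕ :=
  [6, 5, 4, 3, 2, 1, 2, 3, 4, 5, 6, 0, 7, 6, 5, 4, 3, 2, 1, 2, 3, 4, 5, 6]

/-- The exchange of `a` and `j`. -/
noncomputable def hsw : Cfsg.Spor.Fi23 := act Fi23P.fiGen wordSwap

theorem hsw_checks : Fi23P.sameBase ([0] ++ wordSwap) (wordSwap ++ [7]) = true ∧
    Fi23P.sameBase ([7] ++ wordSwap) (wordSwap ++ [0]) = true ∧
    Fi23P.sameBase (wordSwap ++ wordSwap) [] = true := by
  decide +kernel

theorem hsw_sq : hsw * hsw = 1 := by
  have h := Fi23P.eq_of_base hsw_checks.2.2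
  rwa [act_append, act_nil] at h

theorem hsw_a : hsw * fa * hsw⁻¹ = fj := by
  have h := Fi23P.eq_of_base hsw_checks.1
  rw [act_append, act_append, act_cons, act_nil, one_mul, act_cons, act_nil, one_mul] at h
  exact mul_inv_eq_iff_eq_mul.2 h

theorem hsw_j : hsw * fj * hsw⁻¹ = fa := by
  have h := Fi23P.eq_of_base hsw_checks.2.1
  rw [act_append, act_append, act_cons, act_nil, one_mul, act_cons, act_nil, one_mul] at h
  exact mul_inv_eq_iff_eq_mul.2 h

theorem hsw_inv : hsw⁻¹ = hsw := inv_eq_of_mul_eq_one_right hsw_sq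

theorem swap_a {m : Cfsg.Spor.Fi23} (h : Commute m fa) : Commute (hsw * m * hsw⁻¹) fj :=
  hsw_a ▸ (Commute.conj_iff hsw).2 h

theorem swap_j {m : Cfsg.Spor.Fi23} (h : Commute m fj) : Commute (hsw * m * hsw⁻¹) fa :=
  hsw_j ▸ (Commute.conj_iff hsw).2 h

theorem swap_mem {m : Cfsg.Spor.Fi23} (h : m ∈ Nja) : hsw * m * hsw⁻¹ ∈ Nja :=
  mem_pair.2 ⟨swap_a (mem_pair.1 h).2, swap_j (mem_pair.1 h).1⟩

/-- The exchange on the centraliser of the pair. -/
noncomputable def swapAut : MulAut ↥Nja where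
  toFun m := ⟨hsw * m * hsw⁻¹, swap_mem m.2⟩
  invFun m := ⟨hsw * m * hsw⁻¹, swap_mem m.2⟩
  left_inv m := Subtype.ext (by
    show hsw * (hsw * m * hsw⁻¹) * hsw⁻¹ = _
    calc hsw * (hsw * (m : Cfsg.Spor.Fi23) * hsw⁻¹) * hsw⁻¹ = hsw * hsw * m * (hsw * hsw)⁻¹ := by group
      _ = m := by rw [hsw_sq, one_mul, inv_one, mul_one])
  right_inv m := Subtype.ext (by
    show hsw * (hsw * m * hsw⁻¹) * hsw⁻¹ = _
    calc hsw * (hsw * (m : Cfsg.Spor.Fi23) * hsw⁻¹) * hsw⁻¹ = hsw * hsw * m * (hsw * hsw)⁻¹ := by group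
      _ = m := by rw [hsw_sq, one_mul, inv_one, mul_one])
  map_mul' m n := Subtype.ext (by
    show hsw * (m * n : Cfsg.Spor.Fi23) * hsw⁻¹ = hsw * m * hsw⁻¹ * (hsw * n * hsw⁻¹)
    group)

/-- The element carrying `a` to `d` fixing `j`. -/
noncomputable def yad : Cfsg.Spor.Fi23 :=
  Fi23P.fiGen 2 * Fi23P.fiGen 3 * (Fi23P.fiGen 1 * Fi23P.fiGen 2) * (Fi23P.fiGen 0 * Fi23P.fiGen 1)

theorem yad_a : yad * fa * yad⁻¹ = Fi23P.fiGen 3 := by
  have s1 := carry (Fi23P.fiGen_sq 0 (by norm_num)) (Fi23P.fiGen_sq 1 (by norm_num))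
    (fi_braid (g := 0) (h := 1) (by norm_num) (by norm_num) (by decide))
  have s2 := carry (Fi23P.fiGen_sq 1 (by norm_num)) (Fi23P.fiGen_sq 2 (by norm_num))
    (fi_braid (g := 1) (h := 2) (by norm_num) (by norm_num) (by decide))
  have s3 := carry (Fi23P.fiGen_sq 2 (by norm_num)) (Fi23P.fiGen_sq 3 (by norm_num))
    (fi_braid (g := 2) (h := 3) (by norm_num) (by norm_num) (by decide))
  calc yad * fa * yad⁻¹ = Fi23P.fiGen 2 * Fi23P.fiGen 3 * (Fi23P.fiGen 1 * Fi23P.fiGen 2 *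
        (Fi23P.fiGen 0 * Fi23P.fiGen 1 * Fi23P.fiGen 0 * (Fi23P.fiGen 0 * Fi23P.fiGen 1)⁻¹) *
        (Fi23P.fiGen 1 * Fi23P.fiGen 2)⁻¹) * (Fi23P.fiGen 2 * Fi23P.fiGen 3)⁻¹ := by rw [yad]; group
    _ = Fi23P.fiGen 3 := by rw [s1, s2, s3]

theorem yad_j : Commute yad fj := by
  have c : ∀ g, g < 4 → Commute (Fi23P.fiGen g) fj := fun g hg =>
    fi_comm (g := g) (h := 7) (by omega) (by norm_num) (.inl (by interval_cases g <;> decide))
  exact (((c 2 (by norm_num)).mul_left (c 3 (by norm_num))).mul_left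
    ((c 1 (by norm_num)).mul_left (c 2 (by norm_num)))).mul_left ((c 0 (by norm_num)).mul_left (c 1 (by norm_num)))

theorem jg_nc : ¬ Commute fj (Fi23P.fiGen 6) := by
  intro h
  have hw : Nat.beq (Fi23P.tab.walk 0 [7, 6]) (Fi23P.tab.walk 0 [6, 7]) = false := by decide +kernel
  have e : act Fi23P.fiGen [7, 6] = act Fi23P.fiGen [6, 7] := by
    simp only [act_cons, act_nil, one_mul]
    exact h.eq.symm
  have e' := congrArg (fun m => ((Fi23P.phi m ⟨0, Fi23P.zero_lt⟩ : Fin Fi23P.tab.n) : ℕ)) e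
  simp only [Fi23P.realised.act_apply (w := [7, 6]) (by decide), Fi23P.realised.act_apply (w := [6, 7]) (by decide)] at e'
  rw [Nat.beq_eq.mpr e'] at hw
  exact Bool.noConfusion hw

theorem fiGen_ix (x : Cfsg.Spor.Fi23.Gen) : Fi23P.fiGen (Fi23P.genIx x) = PresentedGroup.of x := by
  cases x <;> rfl

namespace Start

variable {G : Type*} [Group G] {z : G} (S : Start z)

theorem θ_commute {x y : ↥Mj} (h : Commute (x : Cfsg.Spor.Fi23) (y : Cfsg.Spor.Fi23)) :
    Commute (S.θ x) (S.θ y) :=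
  Commute.map (Subtype.ext h.eq) S.θ

/-- The pair property at every neighbour of the end node. -/
theorem pair_gen {x : Cfsg.Spor.Fi23} (hx : x ∈ Fi23P.transp) (hne : x ≠ fj) (hc : Commute fj x) {g : G}
    (h1 : Commute g (S.θ ⟨fj, fj_mem⟩)) (h2 : Commute g (S.θ ⟨x, mem_one.2 hc.symm⟩)) :
    ∃ m, S.θ m = g := by
  have haj : fa ≠ fj := fun e => jg_nc (e ▸ fi_comm (g := 0) (h := 6) (by norm_num) (by norm_num) (by decide))
  obtain ⟨k, hk, hkx⟩ := move23 (fiGen_mem (g := 7) (by norm_num)) (fiGen_mem (g := 0) (by norm_num)) hx haj hne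
    fj_fa hc
  set K : ↥Mj := ⟨k, mem_one.2 hk⟩
  have ej : (S.θ K)⁻¹ * S.θ ⟨fj, fj_mem⟩ * S.θ K = S.θ ⟨fj, fj_mem⟩ := by
    rw [← map_inv, ← map_mul, ← map_mul]
    exact congrArg S.θ (Subtype.ext (show k⁻¹ * fj * k = fj by rw [mul_assoc, ← hk.eq, inv_mul_cancel_left]))
  have ea : (S.θ K)⁻¹ * S.θ ⟨x, mem_one.2 hc.symm⟩ * S.θ K = S.θ ⟨fa, fa_mem⟩ := by
    rw [← map_inv, ← map_mul, ← map_mul]
    exact congrArg S.θ (Subtype.ext (show k⁻¹ * x * k = fa by rw [← hkx]; group))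
  have c1 := (Commute.conj_iff (S.θ K)⁻¹).2 h1
  have c2 := (Commute.conj_iff (S.θ K)⁻¹).2 h2
  simp only [inv_inv] at c1 c2
  rw [ej] at c1
  rw [ea] at c2
  obtain ⟨m, hm⟩ := S.pair _ c1 c2
  exact ⟨K * m * K⁻¹, by rw [map_mul, map_mul, map_inv, hm]; group⟩

/-- The model at `a` given by an exchanging element. -/
noncomputable def thA (w : G) : ↥(centralizer ({fa} : Set Cfsg.Spor.Fi23)) →* G :=
  MonoidHom.mk' (fun m => w * S.θ ⟨hsw * m * hsw⁻¹, mem_one.2 (swap_a (mem_one.1 m.2))⟩ * w⁻¹) fun m n => by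
    have e : (⟨hsw * ((m * n : ↥(centralizer ({fa} : Set Cfsg.Spor.Fi23))) : Cfsg.Spor.Fi23) * hsw⁻¹,
        mem_one.2 (swap_a (mem_one.1 (m * n).2))⟩ : ↥Mj) =
        ⟨hsw * m * hsw⁻¹, mem_one.2 (swap_a (mem_one.1 m.2))⟩ *
          ⟨hsw * n * hsw⁻¹, mem_one.2 (swap_a (mem_one.1 n.2))⟩ :=
      Subtype.ext (by simp only [Subgroup.coe_mul]; group)
    rw [e, map_mul]
    group

theorem thA_injective (w : G) : Function.Injective (S.thA w) := fun m n h => by
  have h1 := congrArg Subtype.val (S.inj (mul_left_cancel (mul_right_cancel h)))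
  exact Subtype.ext (mul_left_cancel (mul_right_cancel h1))

theorem thA_agree {w : G}
    (hw : ∀ m : ↥Nja, w * S.θ (inclusion Nja_le m) * w⁻¹ = S.θ (inclusion Nja_le (swapAut m)))
    {m : Cfsg.Spor.Fi23} (h1 : Commute m fa) (h2 : Commute m fj) :
    S.thA w ⟨m, mem_one.2 h1⟩ = S.θ ⟨m, mem_one.2 h2⟩ := by
  have hm : m ∈ Nja := mem_pair.2 ⟨h2, h1⟩
  have h := hw (swapAut ⟨m, hm⟩)
  rw [show swapAut (swapAut ⟨m, hm⟩) = ⟨m, hm⟩ from swapAut.left_inv _] at h
  exact h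

theorem d_to_a {m : Cfsg.Spor.Fi23} (h : Commute m (Fi23P.fiGen 3)) : Commute (yad⁻¹ * m * yad) fa := by
  have h' := (Commute.conj_iff yad⁻¹).2 h
  rwa [← yad_a, show yad⁻¹ * (yad * fa * yad⁻¹) * yad⁻¹⁻¹ = fa by group, inv_inv] at h'

/-- The model at `d`. -/
noncomputable def thD (w : G) : ↥(centralizer ({Fi23P.fiGen 3} : Set Cfsg.Spor.Fi23)) →* G :=
  MonoidHom.mk' (fun m => S.θ ⟨yad, mem_one.2 yad_j⟩ *
      S.thA w ⟨yad⁻¹ * m * yad, mem_one.2 (d_to_a (mem_one.1 m.2))⟩ * (S.θ ⟨yad, mem_one.2 yad_j⟩)⁻¹) fun m n => by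
    have e : (⟨yad⁻¹ * ((m * n : ↥(centralizer ({Fi23P.fiGen 3} : Set Cfsg.Spor.Fi23))) : Cfsg.Spor.Fi23) * yad,
        mem_one.2 (d_to_a (mem_one.1 (m * n).2))⟩ : ↥(centralizer ({fa} : Set Cfsg.Spor.Fi23))) =
        ⟨yad⁻¹ * m * yad, mem_one.2 (d_to_a (mem_one.1 m.2))⟩ *
          ⟨yad⁻¹ * n * yad, mem_one.2 (d_to_a (mem_one.1 n.2))⟩ :=
      Subtype.ext (by simp only [Subgroup.coe_mul]; group)
    rw [e, map_mul]
    group

theorem thD_agree {w : G}
    (hw : ∀ m : ↥Nja, w * S.θ (inclusion Nja_le m) * w⁻¹ = S.θ (inclusion Nja_le (swapAut m)))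
    {m : Cfsg.Spor.Fi23} (h1 : Commute m (Fi23P.fiGen 3)) (h2 : Commute m fj) :
    S.thD w ⟨m, mem_one.2 h1⟩ = S.θ ⟨m, mem_one.2 h2⟩ := by
  have hj : Commute (yad⁻¹ * m * yad) fj := (yad_j.inv_left.mul_left h2).mul_left yad_j
  show S.θ _ * S.thA w _ * (S.θ _)⁻¹ = _
  rw [S.thA_agree hw (d_to_a h1) hj, ← map_inv, ← map_mul, ← map_mul]
  exact congrArg S.θ (Subtype.ext (show yad * (yad⁻¹ * m * yad) * yad⁻¹ = m by group))

theorem b_g {w : G}
    (hw : ∀ m : ↥Nja, w * S.θ (inclusion Nja_le m) * w⁻¹ = S.θ (inclusion Nja_le (swapAut m))) :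
    Commute (S.θ ⟨Fi23P.fiGen 1, mem_one.2 (fi_comm (g := 1) (h := 7) (by norm_num) (by norm_num) (by decide))⟩)
      (S.thA w ⟨Fi23P.fiGen 6, mem_one.2 (fi_comm (g := 6) (h := 0) (by norm_num) (by norm_num) (by decide))⟩) := by
  set fd := Fi23P.fiGen 3
  set fg := Fi23P.fiGen 6
  have cga : Commute fg fa := fi_comm (g := 6) (h := 0) (by norm_num) (by norm_num) (by decide)
  have cgd : Commute fg fd := fi_comm (g := 6) (h := 3) (by norm_num) (by norm_num) (by decide)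
  have cad : Commute fa fd := fi_comm (g := 0) (h := 3) (by norm_num) (by norm_num) (by decide)
  have cjd : Commute fj fd := fi_comm (g := 7) (h := 3) (by norm_num) (by norm_num) (by decide)
  have cbj : Commute (Fi23P.fiGen 1) fj := fi_comm (g := 1) (h := 7) (by norm_num) (by norm_num) (by decide)
  have cbd : Commute (Fi23P.fiGen 1) fd := fi_comm (g := 1) (h := 3) (by norm_num) (by norm_num) (by decide)
  have cbg : Commute (Fi23P.fiGen 1) fg := fi_comm (g := 1) (h := 6) (by norm_num) (by norm_num) (by decide)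
  have hgsq : fg * fg = 1 := Fi23P.fiGen_sq 6 (by norm_num)
  have hjsq : fj * fj = 1 := Fi23P.fiGen_sq 7 (by norm_num)
  have hbr : fj * fg * fj = fg * fj * fg := fi_braid (g := 7) (h := 6) (by norm_num) (by norm_num) (by decide)
  have tdm := fiGen_mem (g := 3) (by norm_num)
  have tjm := fiGen_mem (g := 7) (by norm_num)
  have tgm := fiGen_mem (g := 6) (by norm_num)
  -- the image of the product of `j` and `g` in the model at `a`
  set k := fj * fg with hk
  have hka : Commute k fa := fj_fa.mul_left cga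
  have hkd : Commute k fd := cjd.mul_left cgd
  set KD := S.thD w ⟨k, mem_one.2 hkd⟩ with hKD
  have eA : S.thD w ⟨fa, mem_one.2 cad⟩ = S.θ ⟨fa, fa_mem⟩ := S.thD_agree hw cad fj_fa.symm
  have eD : S.thD w ⟨fd, mem_one.2 (Commute.refl fd)⟩ = S.θ ⟨fd, mem_one.2 cjd.symm⟩ :=
    S.thD_agree hw (Commute.refl fd) cjd.symm
  have c1 : Commute KD (S.θ ⟨fa, fa_mem⟩) :=
    eA ▸ Commute.map (show Commute (⟨k, mem_one.2 hkd⟩ : ↥(centralizer ({fd} : Set Cfsg.Spor.Fi23)))
      ⟨fa, mem_one.2 cad⟩ from Subtype.ext hka.eq) (S.thD w)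
  have c2 : Commute KD (S.θ ⟨fd, mem_one.2 cjd.symm⟩) :=
    eD ▸ Commute.map (show Commute (⟨k, mem_one.2 hkd⟩ : ↥(centralizer ({fd} : Set Cfsg.Spor.Fi23)))
      ⟨fd, mem_one.2 (Commute.refl fd)⟩ from Subtype.ext hkd.eq) (S.thD w)
  have d1 : Commute (w⁻¹ * KD * w) (S.θ ⟨fj, fj_mem⟩) := by
    rw [← S.thA_agree hw (Commute.refl fa) fj_fa.symm] at c1
    have h := (Commute.conj_iff w⁻¹).2 c1
    simp only [inv_inv] at h
    convert h using 1
    show _ = w⁻¹ * (w * S.θ _ * w⁻¹) * w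
    rw [show (⟨hsw * fa * hsw⁻¹, mem_one.2 (swap_a (Commute.refl fa))⟩ : ↥Mj) = ⟨fj, fj_mem⟩ from Subtype.ext hsw_a]
    group
  set x' := hsw * fd * hsw⁻¹ with hx'
  have cx' : Commute fj x' := by rw [← hsw_a]; exact (Commute.conj_iff hsw).2 cad
  have hx'ne : x' ≠ fj := fun e => fiGen_ne (g := 3) (h := 0) (by norm_num) (by norm_num) (by norm_num)
    (mul_left_cancel (mul_right_cancel (e.trans hsw_a.symm)))
  have d2 : Commute (w⁻¹ * KD * w) (S.θ ⟨x', mem_one.2 cx'.symm⟩) := by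
    rw [← S.thA_agree hw cad.symm cjd.symm] at c2
    have h := (Commute.conj_iff w⁻¹).2 c2
    simp only [inv_inv] at h
    convert h using 1
    show _ = w⁻¹ * (w * S.θ _ * w⁻¹) * w
    group
    rfl
  obtain ⟨m, hm⟩ := S.pair_gen (transp_conj tdm hsw) hx'ne cx' d1 d2
  have hmj : Commute (m : Cfsg.Spor.Fi23) fj := mem_one.1 m.2
  set k' := hsw * (m : Cfsg.Spor.Fi23) * hsw⁻¹ with hk'
  have hk'a : Commute k' fa := swap_j hmj
  have eK : S.thA w ⟨k', mem_one.2 hk'a⟩ = KD := by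
    show w * S.θ _ * w⁻¹ = KD
    rw [show (⟨hsw * k' * hsw⁻¹, mem_one.2 (swap_a hk'a)⟩ : ↥Mj) = m from Subtype.ext (by
      show hsw * (hsw * (m : Cfsg.Spor.Fi23) * hsw⁻¹) * hsw⁻¹ = m
      calc hsw * (hsw * (m : Cfsg.Spor.Fi23) * hsw⁻¹) * hsw⁻¹ = hsw * hsw * m * (hsw * hsw)⁻¹ := by group
        _ = m := by rw [hsw_sq, one_mul, inv_one, mul_one]), hm]
    group
  set v := k' * fj * k'⁻¹ with hv
  have hva : Commute v fa := (hk'a.mul_left fj_fa).mul_left hk'a.inv_left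
  -- the transform at `d` of `g` is the transform of `j`
  have eV : S.thD w ⟨fg, mem_one.2 cgd⟩ = S.thA w ⟨v, mem_one.2 hva⟩ := by
    have e1 : (⟨fg, mem_one.2 cgd⟩ : ↥(centralizer ({fd} : Set Cfsg.Spor.Fi23))) =
        ⟨k, mem_one.2 hkd⟩ * ⟨fj, mem_one.2 cjd⟩ * ⟨k, mem_one.2 hkd⟩⁻¹ :=
      Subtype.ext (show fg = k * fj * k⁻¹ from (carry hjsq hgsq hbr).symm)
    have e2 : (⟨v, mem_one.2 hva⟩ : ↥(centralizer ({fa} : Set Cfsg.Spor.Fi23))) =
        ⟨k', mem_one.2 hk'a⟩ * ⟨fj, mem_one.2 fj_fa⟩ * ⟨k', mem_one.2 hk'a⟩⁻¹ := Subtype.ext rfl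
    rw [e1, e2, map_mul, map_mul, map_inv, map_mul, map_mul, map_inv, eK, ← hKD, S.thD_agree hw cjd (Commute.refl fj),
      S.thA_agree hw fj_fa (Commute.refl fj)]
  have hvd : Commute v fd := by
    have h : Commute (S.thA w ⟨v, mem_one.2 hva⟩) (S.thA w ⟨fd, mem_one.2 cad.symm⟩) := by
      rw [← eV, S.thA_agree hw cad.symm cjd.symm, ← eD]
      exact Commute.map (show Commute (⟨fg, mem_one.2 cgd⟩ : ↥(centralizer ({fd} : Set Cfsg.Spor.Fi23)))
        ⟨fd, mem_one.2 (Commute.refl fd)⟩ from Subtype.ext cgd.eq) (S.thD w)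
    exact congrArg Subtype.val (S.thA_injective w (by rw [map_mul, map_mul]; exact h.eq) :
      (⟨v, mem_one.2 hva⟩ : ↥(centralizer ({fa} : Set Cfsg.Spor.Fi23))) * ⟨fd, mem_one.2 cad.symm⟩ =
        ⟨fd, mem_one.2 cad.symm⟩ * ⟨v, mem_one.2 hva⟩)
  have tv : v ∈ Fi23P.transp := transp_conj tjm k'
  have hvne : ∀ {x : Cfsg.Spor.Fi23}, Commute x fa → Commute x fd → Commute x fj → v ≠ x := by
    intro x ha hd hj e
    have h1 : S.thA w ⟨v, mem_one.2 hva⟩ = S.thA w ⟨x, mem_one.2 ha⟩ := congrArg _ (Subtype.ext e)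
    rw [← eV, S.thA_agree hw ha hj, ← S.thD_agree hw hd hj] at h1
    have h2 := congrArg Subtype.val (S.thA_injective w (mul_left_cancel (mul_right_cancel h1)))
    refine jg_nc ?_
    show Commute fj fg
    rw [show fg = x from mul_left_cancel (mul_right_cancel h2)]
    exact hj.symm
  have key := only_triple23 (a := fa) (d := fd) (j := fj) (g := fg) (v := v)
    (fiGen_mem (g := 0) (by norm_num)) tdm (fiGen_ne (by norm_num) (by norm_num) (by norm_num)) cad tjm tgm tv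
    (fun {x} hx => by
      rcases hx with rfl | rfl | rfl
      · exact ⟨fiGen_ne (by norm_num) (by norm_num) (by norm_num), fiGen_ne (by norm_num) (by norm_num) (by norm_num),
          fj_fa.symm, cjd.symm⟩
      · exact ⟨fiGen_ne (by norm_num) (by norm_num) (by norm_num), fiGen_ne (by norm_num) (by norm_num) (by norm_num),
          cga.symm, cgd.symm⟩
      · exact ⟨hvne (Commute.refl fa) cad fj_fa.symm, hvne cad.symm (Commute.refl fd) cjd.symm, hva.symm, hvd.symm⟩)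
    jg_nc (fun x hx cax cdx cjx cgx => by
      have h : Commute (S.thA w ⟨v, mem_one.2 hva⟩) (S.thA w ⟨x, mem_one.2 cax.symm⟩) := by
        rw [← eV, S.thA_agree hw cax.symm cjx.symm, ← S.thD_agree hw cdx.symm cjx.symm]
        exact Commute.map (show Commute (⟨fg, mem_one.2 cgd⟩ : ↥(centralizer ({fd} : Set Cfsg.Spor.Fi23)))
          ⟨x, mem_one.2 cdx.symm⟩ from Subtype.ext cgx.eq) (S.thD w)
      exact congrArg Subtype.val (S.thA_injective w (by rw [map_mul, map_mul]; exact h.eq) :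
        (⟨v, mem_one.2 hva⟩ : ↥(centralizer ({fa} : Set Cfsg.Spor.Fi23))) * ⟨x, mem_one.2 cax.symm⟩ =
          ⟨x, mem_one.2 cax.symm⟩ * ⟨v, mem_one.2 hva⟩))
  set B := S.θ ⟨Fi23P.fiGen 1, mem_one.2 cbj⟩ with hB
  have hBD : Commute B (S.thA w ⟨v, mem_one.2 hva⟩) := by
    rw [← eV, hB, ← S.thD_agree hw cbd cbj]
    exact Commute.map (show Commute (⟨Fi23P.fiGen 1, mem_one.2 cbd⟩ : ↥(centralizer ({fd} : Set Cfsg.Spor.Fi23)))
      ⟨fg, mem_one.2 cgd⟩ from Subtype.ext cbg.eq) (S.thD w)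
  rcases key with e | e | e
  · exfalso
    exact hvne fj_fa cjd (Commute.refl fj) e
  · rwa [show (⟨v, mem_one.2 hva⟩ : ↥(centralizer ({fa} : Set Cfsg.Spor.Fi23))) = ⟨fg, mem_one.2 cga⟩ from
      Subtype.ext e] at hBD
  · set J : ↥(centralizer ({fa} : Set Cfsg.Spor.Fi23)) := ⟨fj, mem_one.2 fj_fa⟩
    have eg : (⟨fg, mem_one.2 cga⟩ : ↥(centralizer ({fa} : Set Cfsg.Spor.Fi23))) = J * ⟨v, mem_one.2 hva⟩ * J :=
      Subtype.ext (show fg = fj * v * fj by
        rw [e]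
        calc fg = fj * fj * fg * (fj * fj) := by rw [hjsq, one_mul, mul_one]
          _ = fj * (fj * fg * fj) * fj := by simp only [mul_assoc])
    have hBJ : Commute B (S.thA w J) := by
      rw [hB, S.thA_agree hw fj_fa (Commute.refl fj)]
      exact S.θ_commute cbj
    rw [eg, map_mul, map_mul]
    exact (hBJ.mul_right hBD).mul_right hBJ

/-- The models give a homomorphism of the presented group. -/
theorem exists_hom : ∃ F : Cfsg.Spor.Fi23 →* G, ∀ k, k < 10 → k ≠ 6 →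
    ∀ h : Fi23P.fiGen k ∈ Mj, F (Fi23P.fiGen k) = S.θ ⟨Fi23P.fiGen k, h⟩ := by
  classical
  obtain ⟨w, hw⟩ := S.extend swapAut
  have hmem : ∀ k, k < 10 → k ≠ 6 → Fi23P.fiGen k ∈ Mj := fun k hk h6 => mem_one.2 (by
    by_cases h7 : k = 7
    · exact h7 ▸ Commute.refl _
    · exact fi_comm (g := k) (h := 7) hk (by norm_num) (by interval_cases k <;> first | decide | omega))
  let v : Cfsg.Spor.Fi23.Gen → ↥Mj := fun x =>
    if h : Fi23P.fiGen (Fi23P.genIx x) ∈ Mj then ⟨_, h⟩ else 1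
  have hv : ∀ x, x ≠ Cfsg.Spor.Fi23.Gen.g → (v x : Cfsg.Spor.Fi23) = PresentedGroup.of x := fun x hx => by
    have h := hmem (Fi23P.genIx x) (by cases x <;> decide) (by cases x <;> first | decide | exact absurd rfl hx)
    simp only [v]
    rw [dif_pos h]
    exact fiGen_ix x
  let val : Cfsg.Spor.Fi23.Gen → G := fun x =>
    if x = Cfsg.Spor.Fi23.Gen.g then
      S.thA w ⟨Fi23P.fiGen 6, mem_one.2 (fi_comm (g := 6) (h := 0) (by norm_num) (by norm_num) (by decide))⟩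
    else S.θ (v x)
  have hcox : ∀ x y : Cfsg.Spor.Fi23.Gen, (PresentedGroup.of x * PresentedGroup.of y : Cfsg.Spor.Fi23) ^
      coxLabel Cfsg.Spor.Fi23.edges x y = 1 := fun x y =>
    PresentedGroup.one_of_mem (rels := coxRelators Cfsg.Spor.Fi23.edges ∪ {r | r ∈ Cfsg.Spor.Fi23.extra})
      (.inl ⟨x, by cases x <;> decide, y, by cases y <;> decide, rfl⟩) |> fun h => by
        simpa [PresentedGroup.of] using h
  have hA : ∀ x : Cfsg.Spor.Fi23.Gen, x ≠ .g → x ≠ .b → ∃ h : Commute (PresentedGroup.of x : Cfsg.Spor.Fi23) fa,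
      S.θ (v x) = S.thA w ⟨PresentedGroup.of x, mem_one.2 h⟩ := fun x hx hb => by
    have h1 : Commute (Fi23P.fiGen (Fi23P.genIx x)) fa := by
      by_cases h0 : x = .a
      · subst h0; exact Commute.refl _
      · exact fi_comm (g := Fi23P.genIx x) (h := 0) (by cases x <;> decide) (by norm_num)
          (by cases x <;> first | decide | contradiction)
    rw [fiGen_ix] at h1
    have h2 : Commute (PresentedGroup.of x : Cfsg.Spor.Fi23) fj := by
      rw [← hv x hx]; exact mem_one.1 (v x).2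
    refine ⟨h1, ?_⟩
    rw [S.thA_agree hw h1 h2]
    exact congrArg S.θ (Subtype.ext (hv x hx))
  have hbg := S.b_g hw
  have hrel : ∀ r ∈ coxRelators Cfsg.Spor.Fi23.edges ∪ {r | r ∈ Cfsg.Spor.Fi23.extra}, FreeGroup.lift val r = 1 := by
    rintro r (⟨x, -, y, -, rfl⟩ | hr)
    · rw [map_pow, map_mul, FreeGroup.lift_apply_of, FreeGroup.lift_apply_of]
      set m := coxLabel Cfsg.Spor.Fi23.edges x y with hm
      by_cases hx : x = .g <;> by_cases hy : y = .g
      · subst hx hy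
        simp only [val, if_pos rfl]
        rw [← map_mul, ← map_pow, ← map_one (S.thA w)]
        refine congrArg _ (Subtype.ext ?_)
        rw [hm]
        show (Fi23P.fiGen 6 * Fi23P.fiGen 6) ^ coxLabel Cfsg.Spor.Fi23.edges Cfsg.Spor.Fi23.Gen.g Cfsg.Spor.Fi23.Gen.g = 1
        rw [show Fi23P.fiGen 6 = PresentedGroup.of Cfsg.Spor.Fi23.Gen.g from fiGen_ix Cfsg.Spor.Fi23.Gen.g]
        exact hcox .g .g
      · subst hx
        by_cases hb : y = .b
        · subst hb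
          simp only [val, if_pos rfl, if_neg hy]
          rw [show v .b = ⟨Fi23P.fiGen 1, hmem 1 (by norm_num) (by norm_num)⟩ from Subtype.ext (hv _ hy),
            show m = 2 from rfl, hbg.symm.mul_pow, ← map_pow, ← map_pow]
          rw [show (⟨Fi23P.fiGen 6, mem_one.2 (fi_comm (g := 6) (h := 0) (by norm_num) (by norm_num) (by decide))⟩ :
              ↥(centralizer ({fa} : Set Cfsg.Spor.Fi23))) ^ 2 = 1 from Subtype.ext (by
              rw [Subgroup.coe_pow, pow_two, Fi23P.fiGen_sq 6 (by norm_num)]; rfl),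
            show (⟨Fi23P.fiGen 1, hmem 1 (by norm_num) (by norm_num)⟩ : ↥Mj) ^ 2 = 1 from Subtype.ext (by
              rw [Subgroup.coe_pow, pow_two, Fi23P.fiGen_sq 1 (by norm_num)]; rfl), map_one, map_one, one_mul]
        · obtain ⟨h, e⟩ := hA y hy hb
          simp only [val, if_pos rfl, if_neg hy, e]
          rw [← map_mul, ← map_pow, ← map_one (S.thA w)]
          exact congrArg _ (Subtype.ext (hcox .g y))
      · subst hy
        by_cases hb : x = .b
        · subst hb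
          simp only [val, if_pos rfl, if_neg hx]
          rw [show v .b = ⟨Fi23P.fiGen 1, hmem 1 (by norm_num) (by norm_num)⟩ from Subtype.ext (hv _ hx),
            show m = 2 from rfl, hbg.mul_pow, ← map_pow, ← map_pow]
          rw [show (⟨Fi23P.fiGen 6, mem_one.2 (fi_comm (g := 6) (h := 0) (by norm_num) (by norm_num) (by decide))⟩ :
              ↥(centralizer ({fa} : Set Cfsg.Spor.Fi23))) ^ 2 = 1 from Subtype.ext (by
              rw [Subgroup.coe_pow, pow_two, Fi23P.fiGen_sq 6 (by norm_num)]; rfl),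
            show (⟨Fi23P.fiGen 1, hmem 1 (by norm_num) (by norm_num)⟩ : ↥Mj) ^ 2 = 1 from Subtype.ext (by
              rw [Subgroup.coe_pow, pow_two, Fi23P.fiGen_sq 1 (by norm_num)]; rfl), map_one, map_one, one_mul]
        · obtain ⟨h, e⟩ := hA x hx hb
          simp only [val, if_pos rfl, if_neg hx, e]
          rw [← map_mul, ← map_pow, ← map_one (S.thA w)]
          exact congrArg _ (Subtype.ext (hcox x .g))
      · simp only [val, if_neg hx, if_neg hy]
        rw [← map_mul, ← map_pow, ← map_one S.θ]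
        refine congrArg S.θ (Subtype.ext ?_)
        rw [Subgroup.coe_pow, Subgroup.coe_mul, hv x hx, hv y hy]
        exact hcox x y
    · have e : FreeGroup.lift val r = S.θ (FreeGroup.lift v r) := by
        have hr' : r ∈ Cfsg.Spor.Fi23.extra := hr
        simp only [Cfsg.Spor.Fi23.extra, List.mem_cons, List.not_mem_nil, or_false] at hr'
        rcases hr' with rfl | rfl <;>
          simp [val, Cfsg.Spor.Fi23.a, Cfsg.Spor.Fi23.b, Cfsg.Spor.Fi23.c, Cfsg.Spor.Fi23.d, Cfsg.Spor.Fi23.e,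
            Cfsg.Spor.Fi23.f, Cfsg.Spor.Fi23.h, Cfsg.Spor.Fi23.i]
      rw [e, ← map_one S.θ]
      refine congrArg S.θ (Subtype.ext ?_)
      rw [Subgroup.coe_one, ← PresentedGroup.one_of_mem (rels := coxRelators Cfsg.Spor.Fi23.edges ∪
        {r | r ∈ Cfsg.Spor.Fi23.extra}) (.inr hr)]
      have hr' : r ∈ Cfsg.Spor.Fi23.extra := hr
      simp only [Cfsg.Spor.Fi23.extra, List.mem_cons, List.not_mem_nil, or_false] at hr'
      rcases hr' with rfl | rfl <;>
        simp [hv, PresentedGroup.of, Cfsg.Spor.Fi23.a, Cfsg.Spor.Fi23.b, Cfsg.Spor.Fi23.c, Cfsg.Spor.Fi23.d,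
          Cfsg.Spor.Fi23.e, Cfsg.Spor.Fi23.f, Cfsg.Spor.Fi23.h, Cfsg.Spor.Fi23.i]
  refine ⟨PresentedGroup.toGroup hrel, fun k hk h6 h => ?_⟩
  have hx : ∃ x, Fi23P.genIx x = k ∧ x ≠ Cfsg.Spor.Fi23.Gen.g := by
    interval_cases k <;> first
      | exact ⟨.a, rfl, by decide⟩ | exact ⟨.b, rfl, by decide⟩ | exact ⟨.c, rfl, by decide⟩
      | exact ⟨.d, rfl, by decide⟩ | exact ⟨.e, rfl, by decide⟩ | exact ⟨.f, rfl, by decide⟩
      | exact ⟨.j, rfl, by decide⟩ | exact ⟨.h, rfl, by decide⟩ | exact ⟨.i, rfl, by decide⟩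
      | omega
  obtain ⟨x, rfl, hx⟩ := hx
  have e : PresentedGroup.toGroup hrel (PresentedGroup.of x) = S.θ (v x) := by
    rw [PresentedGroup.toGroup.of]; exact if_neg hx
  rw [← fiGen_ix] at e
  rw [e]
  exact congrArg S.θ (Subtype.ext ((hv x hx).trans (fiGen_ix x).symm))

end Start

end CfsgLib.LargeFischer.Prime
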