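import Cfsg.Agent.Lib.LargeFischer.Prime.Node
import Cfsg.Agent.Lib.LargeFischer.Prime.Trace
import Mathlib.GroupTheory.SemidirectProduct

/-!
# The derived group of the presented `Fi24` inside a group of large Fischer type

The presented group goes into two copies of the group extended by their exchange; on the derived group the first
coordinate is a homomorphism extending the embedding of `Fi23`.
-/

set_option autoImplicit false
set_option maxRecDepth 100000
set_option maxHeartbeats 1000000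
set_option linter.style.haveILetI false
set_option linter.unusedSectionVars false

namespace CfsgLib.LargeFischer.Prime

open CfsgLib.PresCert CfsgLib.Fi24P CfsgLib.Fi24P.ThreeT Subgroup
open CfsgLib.LargeFischer.Ext (tri24 genH genH_coe piL_node)

attribute [local irreducible] relShort Fi23P.relShort Fi23P.levels Fi23P.wordA Fi23P.baseL

variable {G : Type*} [Group G]

/-- The exchange of the two copies by the sign. -/
def swapAct (G : Type*) [Group G] : ℤˣ →* MulAut (G × G) :=
  MonoidHom.mk' (fun u => if u = 1 then 1 else MulEquiv.prodComm) fun a b => by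
    rcases Int.units_eq_one_or a with rfl | rfl <;> rcases Int.units_eq_one_or b with rfl | rfl <;>
      simp only [mul_one, one_mul, Int.units_mul_self, if_true, show ((-1 : ℤˣ) = 1) = False from eq_false (by decide),
        if_false]
    exact MulEquiv.ext fun p => rfl

theorem swapAct_neg (p : G × G) : swapAct G (-1) p = (p.2, p.1) := rfl

theorem swapAct_diag (u : ℤˣ) (x : G) : swapAct G u (x, x) = (x, x) := by
  rcases Int.units_eq_one_or u with rfl | rfl
  · rfl
  · rfl

/-- Two copies extended by the exchange. -/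
abbrev Wr (G : Type*) [Group G] : Type _ := (G × G) ⋊[swapAct G] ℤˣ

variable {z : G} (E : Emb z)

/-- The centraliser of the first generator inside the two copies. -/
noncomputable def diagHom : ↥Fi24P.subgH →* Wr G :=
  MonoidHom.mk' (fun m => ⟨(E.F (piL m), E.F (piL m)), signHom (m : Cfsg.Spor.Fi24)⟩) fun a b => by
    refine SemidirectProduct.ext ?_ ?_
    · show (E.F (piL (a * b)), E.F (piL (a * b))) = (E.F (piL a), E.F (piL a)) * swapAct G _ (E.F (piL b), E.F (piL b))
      rw [swapAct_diag, map_mul, map_mul]; rfl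
    · show signHom ((a : Cfsg.Spor.Fi24) * (b : Cfsg.Spor.Fi24)) = _
      rw [map_mul]; rfl

/-- The model on the two copies. -/
noncomputable def wrModel : PreModel (Wr G) where
  φ := diagHom E
  d := ⟨1, -1⟩
  map_l := by
    refine SemidirectProduct.ext ?_ (signHom_gen 0)
    show (E.F (piL ⟨eltL, eltL_mem⟩), E.F (piL ⟨eltL, eltL_mem⟩)) = (1 : G × G)
    rw [piL_eq_one.2 (.inr rfl), map_one]; rfl

theorem diag_gen {g : ℕ} (h2 : 2 ≤ g) (hg : g < 12) :
    (wrModel E).φ (genH g) = ⟨(E.F (Fi23P.fiGen (g - 2)), E.F (Fi23P.fiGen (g - 2))), -1⟩ := by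
  refine SemidirectProduct.ext ?_ ?_
  · show (E.F (piL (genH g)), E.F (piL (genH g))) = _
    rw [piL_node h2 hg]
  · show signHom (genH g : Cfsg.Spor.Fi24) = -1
    rw [genH_coe hg (by omega), signHom_gen]

theorem wr_mul (p q : G × G) (u : ℤˣ) : (⟨p, -1⟩ : Wr G) * ⟨q, u⟩ = ⟨p * (q.2, q.1), -1 * u⟩ := rfl

theorem wr_mul_one (p q : G × G) (u : ℤˣ) : (⟨p, 1⟩ : Wr G) * ⟨q, u⟩ = ⟨p * q, 1 * u⟩ :=
  SemidirectProduct.ext (by show p * swapAct G 1 q = _; rw [map_one]; rfl) rfl

variable {E} in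
theorem Rot.node (O : Rot E) : (wrModel E).Node ⟨(O.R, O.R⁻¹), -1⟩ := by
  have hR2 : O.R * O.R = O.R⁻¹ := eq_inv_of_mul_eq_one_left O.cube
  have hR2' : O.R⁻¹ * O.R⁻¹ = O.R := by rw [← mul_inv_rev, hR2, inv_inv]
  refine ⟨?_, fun g h2 hg => ?_, ?_, ?_, ?_⟩
  · rw [wr_mul]
    refine SemidirectProduct.ext ?_ rfl
    show (O.R * O.R⁻¹, O.R⁻¹ * O.R) = (1 : G × G)
    rw [mul_inv_cancel, inv_mul_cancel]; rfl
  · have h := mul_inv_eq_iff_eq_mul.1 (O.inv (g - 2) (by omega) (by omega))
    set a := E.F (Fi23P.fiGen (g - 2))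
    have h' : a * O.R⁻¹ = O.R * a := by
      rw [mul_inv_eq_iff_eq_mul, mul_assoc, h, ← mul_assoc, mul_inv_cancel, one_mul]
    rw [diag_gen E (by omega) hg, wr_mul, wr_mul]
    refine SemidirectProduct.ext ?_ rfl
    show (a * O.R⁻¹, a * O.R) = (O.R * a, O.R⁻¹ * a)
    rw [h', h]
  · show (⟨1, -1⟩ : Wr G) * ⟨(O.R, O.R⁻¹), -1⟩ * ⟨1, -1⟩ = ⟨(O.R, O.R⁻¹), -1⟩ * ⟨1, -1⟩ * ⟨(O.R, O.R⁻¹), -1⟩
    rw [wr_mul, wr_mul, Int.units_mul_self, wr_mul_one, wr_mul_one]
    refine SemidirectProduct.ext ?_ rfl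
    show ((1 : G) * O.R⁻¹ * 1, (1 : G) * O.R * 1) = (O.R * 1 * O.R, O.R⁻¹ * 1 * O.R⁻¹)
    simp only [one_mul, mul_one, hR2, hR2']
  · have ha : E.F fa * E.F fa = 1 := by rw [← map_mul, Fi23P.fiGen_sq 0 (by norm_num), map_one]
    have flip : ∀ {r : G}, r * E.F fa * (r * E.F fa) * (r * E.F fa) = 1 →
        E.F fa * r⁻¹ * E.F fa = r * E.F fa * r := fun {r} h => by
      have e : r * E.F fa * r * (E.F fa * r * E.F fa) = 1 := by rw [← h]; simp only [mul_assoc]
      rw [← eq_inv_of_mul_eq_one_left e |>.symm, mul_inv_rev, mul_inv_rev, inv_eq_of_mul_eq_one_right ha, mul_assoc]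
    rw [diag_gen E le_rfl (by norm_num), wr_mul, wr_mul, Int.units_mul_self, wr_mul_one, wr_mul_one]
    refine SemidirectProduct.ext ?_ rfl
    show (E.F fa * O.R⁻¹ * E.F fa, E.F fa * O.R * E.F fa) = (O.R * E.F fa * O.R, O.R⁻¹ * E.F fa * O.R⁻¹)
    have h2 := flip O.braid'
    rw [inv_inv] at h2
    rw [flip O.braid, h2]
  · have key : ∀ w : List ℕ, ∀ h : hLetters w = true,
        act ((wrModel E).gens ⟨(O.R, O.R⁻¹), -1⟩) w = (wrModel E).φ ⟨act ftGen w, hLetters_mem h⟩ := by
      intro w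
      induction w with
      | nil =>
        intro h; rw [act_nil, ← map_one (wrModel E).φ]
        exact congrArg (wrModel E).φ (Subtype.ext (by simp [act_nil]))
      | cons g w ih =>
        intro h
        obtain ⟨hg, hg1⟩ := hLetters_spec h g List.mem_cons_self
        have hw : hLetters w = true := by
          simp only [hLetters, List.all_cons, Bool.and_eq_true] at h ⊢
          exact h.2
        rw [act_cons, ih hw, PreModel.gens, if_neg hg1, ← map_mul]
        refine congrArg (wrModel E).φ (Subtype.ext ?_)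
        simp only [Subgroup.coe_mul, genH_coe hg hg1, act_cons]
    rw [key wordTri tri_moves.2.2.2.2.2]
    have e : (wrModel E).φ ⟨act ftGen wordTri, hLetters_mem tri_moves.2.2.2.2.2⟩ =
        ⟨(E.F (piL tri24), E.F (piL tri24)), -1⟩ := SemidirectProduct.ext rfl tri24_sign
    rw [e, wr_mul, wr_mul]
    refine SemidirectProduct.ext ?_ rfl
    have h := mul_inv_eq_iff_eq_mul.1 O.tri
    set T := E.F (piL tri24)
    have h' : T * O.R⁻¹ = O.R * T := by
      rw [mul_inv_eq_iff_eq_mul, mul_assoc, h, ← mul_assoc, mul_inv_cancel, one_mul]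
    show (T * O.R⁻¹, T * O.R) = (O.R * T, O.R⁻¹ * T)
    rw [h', h]

/-- The embedding of `Fi23` extends to the derived group of the presented `Fi24`. -/
theorem Emb.exists_com_hom (E : Emb z) :
    ∃ Ψ : ↥comG →* G, ∀ (u : Cfsg.Spor.Fi23) (h : psi u ∈ comG), Ψ ⟨psi u, h⟩ = E.F u := by
  obtain ⟨O⟩ := E.exists_rot
  obtain ⟨Φ, hΦ⟩ := PreModel.exists_hom (L := wrModel E) (V := ⟨(O.R, O.R⁻¹), -1⟩) O.node
  have hright : ∀ m ∈ comG, (Φ m).right = 1 := fun m hm =>
    Abelianization.commutator_subset_ker ((SemidirectProduct.rightHom (φ := swapAct G)).comp Φ) hm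
  refine ⟨MonoidHom.mk' (fun m => (Φ (m : Cfsg.Spor.Fi24)).left.1) fun a b => ?_, fun u h => ?_⟩
  · show (Φ ((a : Cfsg.Spor.Fi24) * (b : Cfsg.Spor.Fi24))).left.1 = _
    rw [map_mul, SemidirectProduct.mul_left, hright _ a.2, map_one]
    rfl
  · show (Φ (psi u)).left.1 = E.F u
    rw [show Φ (psi u) = (wrModel E).φ ⟨psi u, psi_mem u⟩ from hΦ ⟨psi u, psi_mem u⟩]
    show E.F (piL ⟨psi u, psi_mem u⟩) = E.F u
    rw [piL_eq (z := u) (.inl rfl)]

end CfsgLib.LargeFischer.Prime
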