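import Cfsg.Agent.Lib.LargeFischer.Prime.Rotation
import Cfsg.Agent.Lib.LargeFischer.Ext.OrthStab
import Cfsg.Agent.Lib.ThreeTransp.M23Pair
import Cfsg.Agent.Lib.FischerPair.M24

/-!
# The elements of the model at `b`, `i` commuting with the products of two nodes
-/

set_option autoImplicit false
set_option maxRecDepth 100000
set_option maxHeartbeats 1000000
set_option linter.style.haveILetI false
set_option linter.unusedSectionVars false

namespace CfsgLib.LargeFischer.Prime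

open CfsgLib.PresCert CfsgLib.Fi24P CfsgLib.Fi24P.ThreeT Subgroup
open CfsgLib.ThreeTransp (link)
open CfsgLib.FischerPair (common)
open CfsgLib.LargeFischer.Ext (nod nod_coe two_nodes triS triS_out commute_nine piL_subOne three_card sig p0
  sig_base commute_nodes nodes nodes_comm genH genH_coe piL_node)

attribute [local irreducible] relShort Fi23P.relShort Fi23P.levels Fi23P.wordA Fi23P.baseL

/-- An element of `Fi23` centralising every node whose element in `Fi24` commutes with the second generator is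
trivial. -/
theorem node_kernel {u : Cfsg.Spor.Fi23} (hk : Commute (psi u) (ftGen 1))
    (hu : ∀ g, 1 ≤ g → g < 10 → Commute u (Fi23P.fiGen g)) : u = 1 := by
  haveI := Fi23P.card_fi.1
  haveI := ThreeT.finite24
  classical
  have hK : subK ≤ centralizer ({u} : Set Cfsg.Spor.Fi23) := by
    refine (Subgroup.closure_le _).2 ?_
    rintro _ ⟨w, hw, rfl⟩
    obtain ⟨k, hk', rfl⟩ := List.mem_map.1 hw
    rw [List.mem_range] at hk'
    have h1 : 1 ≤ orthoMap k := by
      rcases Nat.eq_zero_or_pos k with rfl | h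
      · decide
      · rw [orthoMap]; split_ifs <;> omega
    rw [act_cons, act_nil, one_mul]
    exact mem_centralizer_singleton_iff.2 (hu _ h1 (orthoMap_lt hk')).eq.symm
  set t : Cfsg.Spor.Fi23 := (triS : Cfsg.Spor.Fi23)
  have hc : ∀ {g : ℕ}, g < 10 → t⁻¹ * Fi23P.fiGen g * t ∈ Fi23P.transp := fun hg => by
    simpa using transp_conj (fiGen_mem hg) t⁻¹
  have two : ∀ {g : ℕ}, 3 < g → g < 10 → Commute (Fi23P.fiGen 2) (Fi23P.fiGen g) →
      (Commute u (t⁻¹ * Fi23P.fiGen 2 * t) ∧ Commute u (t⁻¹ * Fi23P.fiGen g * t)) ∨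
        (u * (t⁻¹ * Fi23P.fiGen 2 * t) * u⁻¹ = t⁻¹ * Fi23P.fiGen g * t ∧
          u * (t⁻¹ * Fi23P.fiGen g * t) * u⁻¹ = t⁻¹ * Fi23P.fiGen 2 * t) := by
    intro g h3 hg hcm
    have hne : Fi23P.fiGen g ≠ Fi23P.fiGen 2 := fiGen_ne hg (by norm_num) (by omega)
    refine CfsgLib.M23.conj_pair_cases setup23 (hc (by norm_num)) ⟨hc hg, fun e => hne ?_, ?_⟩ ?_
    · exact mul_left_cancel (mul_right_cancel e)
    · have h := (Commute.conj_iff t⁻¹).2 hcm
      rwa [inv_inv] at h
    · have h := hK (two_nodes (j := 2) (k := g) (by norm_num) (by norm_num) (by omega) hg triS)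
      rw [mem_centralizer_singleton_iff] at h
      simp only [Subgroup.coe_mul, Subgroup.coe_inv, nod_coe (show 1 ≤ 2 by norm_num) (show 2 < 10 by norm_num),
        nod_coe (show 1 ≤ g by omega) hg] at h
      rw [show t⁻¹ * Fi23P.fiGen 2 * t * (t⁻¹ * Fi23P.fiGen g * t) = t⁻¹ * (Fi23P.fiGen 2 * Fi23P.fiGen g) * t by
        group]
      exact h.symm
  have hu2 : Commute u (t⁻¹ * Fi23P.fiGen 2 * t) := by
    rcases two (g := 4) (by norm_num) (by norm_num) (fi_comm (by norm_num) (by norm_num) (by decide)) with h | h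
    · exact h.1
    rcases two (g := 5) (by norm_num) (by norm_num) (fi_comm (by norm_num) (by norm_num) (by decide)) with h' | h'
    · exact h'.1
    exact absurd (mul_left_cancel (mul_right_cancel (h.1.symm.trans h'.1)))
      (fiGen_ne (by norm_num) (by norm_num) (by norm_num))
  have hnot : t⁻¹ * Fi23P.fiGen 2 * t ∉ subK := fun h => by
    refine triS_out.2.1 ?_
    have h' : sig (triS⁻¹ * nod 2 * triS) p0 = p0 := sig_base.2 (by
      simpa only [Subgroup.coe_mul, Subgroup.coe_inv, nod_coe (show 1 ≤ 2 by norm_num) (show 2 < 10 by norm_num)]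
        using h)
    rw [map_mul, map_mul, map_inv, Equiv.Perm.mul_apply, Equiv.Perm.mul_apply, Equiv.Perm.inv_def,
      Equiv.symm_apply_eq] at h'
    exact h'
  have hle : subOne ≤ centralizer ({u} : Set Cfsg.Spor.Fi23) := by
    set K := subK.subgroupOf subOne
    set H := (centralizer ({u} : Set Cfsg.Spor.Fi23)).subgroupOf subOne
    have hKH : K ≤ H := fun x hx => Subgroup.mem_subgroupOf.2 (hK (Subgroup.mem_subgroupOf.1 hx))
    have h3 : K.index = 3 := (Subgroup.index_eq_card K).trans three_card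
    have hd : H.index ∣ 3 := h3 ▸ Subgroup.index_dvd_of_le hKH
    rcases (Nat.dvd_prime (by norm_num)).1 hd with h | h
    · exact Subgroup.subgroupOf_eq_top.1 (Subgroup.index_eq_one.1 h)
    · exfalso
      have e := Subgroup.relIndex_mul_index hKH
      rw [h, h3] at e
      have hHK : H ≤ K := Subgroup.relIndex_eq_one.1 (by omega)
      have hm : (triS⁻¹ * nod 2 * triS : ↥subOne) ∈ H := Subgroup.mem_subgroupOf.2 (by
        simp only [Subgroup.coe_mul, Subgroup.coe_inv, nod_coe (show 1 ≤ 2 by norm_num) (show 2 < 10 by norm_num)]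
        exact mem_centralizer_singleton_iff.2 hu2.eq.symm)
      have hm' := Subgroup.mem_subgroupOf.1 (hHK hm)
      simp only [Subgroup.coe_mul, Subgroup.coe_inv, nod_coe (show 1 ≤ 2 by norm_num) (show 2 < 10 by norm_num)] at hm'
      exact hnot hm'
  refine psi_injective (((CfsgLib.M24.pairData setup24).center mem_conjugatesOf_self
    (gen_mem (show 1 < 12 by norm_num)) k_not_commute (psi_comm u).symm hk ?_).trans (map_one psi).symm)
  rintro x ⟨hxl, hxk⟩
  obtain ⟨y, hy, rfl⟩ := link_hat hxl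
  have hyH : hat y ∈ subgH := centralizer_eltL.le (mem_centralizer_singleton_iff.2 hxl.2.2.eq.symm)
  have hy1 := piL_subOne (m := ⟨hat y, hyH⟩) hxk.2.2.symm
  rw [piL_eq (z := y) (.inr rfl)] at hy1
  exact psi_commute_hat.2 (show Commute u y from (mem_centralizer_singleton_iff.1 (hle hy1)).symm)

variable {G : Type*} [Group G] {z : G} {E : Emb z}

/-- Commuting with the products of two nodes. -/
abbrev Pairs (E : Emb z) (r : G) : Prop :=
  ∀ g h, 1 ≤ g → g < 10 → 1 ≤ h → h < 10 → Commute r (E.F (Fi23P.fiGen g * Fi23P.fiGen h))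

/-- What follows for the words in the nodes. -/
theorem nodes_pairs {r : G} (hr : Pairs E r) {m : ↥Fi24P.subgH} (hm : m ∈ closure nodes) :
    (signHom (m : Cfsg.Spor.Fi24) = 1 → Commute r (E.F (piL m))) ∧
      (signHom (m : Cfsg.Spor.Fi24) = -1 → Commute r (E.F (Fi23P.fiGen 1 * piL m))) := by
  have step : ∀ (x : ↥Fi24P.subgH), x ∈ nodes → ∀ y : ↥Fi24P.subgH,
      ((signHom (y : Cfsg.Spor.Fi24) = 1 → Commute r (E.F (piL y))) ∧
        (signHom (y : Cfsg.Spor.Fi24) = -1 → Commute r (E.F (Fi23P.fiGen 1 * piL y)))) →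
      (signHom ((x * y : ↥Fi24P.subgH) : Cfsg.Spor.Fi24) = 1 → Commute r (E.F (piL (x * y)))) ∧
        (signHom ((x * y : ↥Fi24P.subgH) : Cfsg.Spor.Fi24) = -1 → Commute r (E.F (Fi23P.fiGen 1 * piL (x * y)))) := by
    rintro _ ⟨g, ⟨h2, h12⟩, rfl⟩ y ⟨ih1, ih2⟩
    rw [Subgroup.coe_mul, map_mul, map_mul piL, genH_coe h12 (by omega), signHom_gen,
      piL_node (by omega) h12, neg_one_mul]
    have hg := hr (g - 2) 1 (by omega) (by omega) le_rfl (by norm_num)
    have hg' := hr 1 (g - 2) le_rfl (by norm_num) (by omega) (by omega)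
    refine ⟨fun h => ?_, fun h => ?_⟩
    · have h' := hg.mul_right (ih2 (by rw [← neg_neg (signHom (y : Cfsg.Spor.Fi24)), h]))
      rwa [← map_mul, mul_assoc, ← mul_assoc (Fi23P.fiGen 1) (Fi23P.fiGen 1), Fi23P.fiGen_sq 1 (by norm_num),
        one_mul] at h'
    · have h' := hg'.mul_right (ih1 (neg_injective h))
      rwa [← map_mul, mul_assoc] at h'
  induction hm using Subgroup.closure_induction_left with
  | one =>
    rw [map_one piL, map_one E.F, Subgroup.coe_one, map_one]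
    exact ⟨fun _ => Commute.one_right _, fun h => absurd h (by decide)⟩
  | mul_left x hx y hy ih => exact step x hx y ih
  | inv_mul_cancel x hx y hy ih =>
    obtain ⟨g, ⟨h2, h12⟩, rfl⟩ := hx
    rw [show (genH g)⁻¹ = genH g from inv_eq_of_mul_eq_one_right (Subtype.ext (by
      rw [Subgroup.coe_mul, genH_coe h12 (by omega)]; exact ftGen_sq g h12))]
    exact step _ ⟨g, ⟨h2, h12⟩, rfl⟩ y ih

variable (P : PM E (Fi23P.fiGen 1) (Fi23P.fiGen 9))

theorem pm_trio {n : ↥(pairC (Fi23P.fiGen 1) (Fi23P.fiGen 9))} (hn : Pairs E (P.θ n)) :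
    Commute (n : Cfsg.Spor.Fi24) (hat (Fi23P.fiGen 5)) ∧
    ∀ x ∈ link transp24 (hat (Fi23P.fiGen 1)) ∩ link transp24 (hat (Fi23P.fiGen 9)) ∩
        link transp24 (hat (Fi23P.fiGen 5)),
      x ∈ common transp24 eltL (ftGen 1) → Commute (n : Cfsg.Spor.Fi24) x := by
  obtain ⟨nb, -, -⟩ := mem_pairC.1 n.2
  have hb : hat (Fi23P.fiGen 1) * hat (Fi23P.fiGen 1) = 1 := hat_sq (fiGen_mem (by norm_num))
  have key : ∀ {y : Cfsg.Spor.Fi23}, Commute y (Fi23P.fiGen 1) → Commute y (Fi23P.fiGen 9) →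
      Commute (P.θ n) (E.F (Fi23P.fiGen 1 * y)) → Commute (n : Cfsg.Spor.Fi24) (hat y) := by
    intro y y1 y9 hy
    have hm : psi (Fi23P.fiGen 1 * y) ∈ pairC (Fi23P.fiGen 1) (Fi23P.fiGen 9) := psi_mem_pairC
      ((Commute.refl _).mul_left y1) ((fi_comm (by norm_num) (by norm_num) (by decide)).mul_left y9)
    rw [← P.agree _ hm] at hy
    have h := nb.mul_right (P.commute_of hy)
    change Commute (n : Cfsg.Spor.Fi24) (hat (Fi23P.fiGen 1) * psi (Fi23P.fiGen 1 * y)) at h
    rwa [← hat_mul, ← mul_assoc, hb, one_mul] at h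
  refine ⟨key (fi_comm (by norm_num) (by norm_num) (by decide)) (fi_comm (by norm_num) (by norm_num) (by decide))
    (hn 1 5 le_rfl (by norm_num) (by norm_num) (by norm_num)), ?_⟩
  rintro x ⟨⟨hx1, hx9⟩, -⟩ ⟨hxl, hxk⟩
  obtain ⟨y, hy, rfl⟩ := link_hat hxl
  have hyH : hat y ∈ subgH := centralizer_eltL.le (mem_centralizer_singleton_iff.2 hxl.2.2.eq.symm)
  have hmem := commute_nodes (m := ⟨hat y, hyH⟩) hxk.2.2.symm (by
    show Commute (hat y) (ftGen (9 + 2))
    rw [← hat_gen (by norm_num)]; exact hx9.2.2.symm)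
  have h := (nodes_pairs hn hmem).2 (hat_sign y)
  rw [piL_eq (z := y) (.inr rfl)] at h
  exact key (hat_commute.1 hx1.2.2.symm) (hat_commute.1 hx9.2.2.symm) h

/-- Where such an element carries the first two generators. -/
theorem pm_orbit {n : ↥(pairC (Fi23P.fiGen 1) (Fi23P.fiGen 9))} (hn : Pairs E (P.θ n)) {y : Cfsg.Spor.Fi24}
    (hy : y = eltL ∨ y = ftGen 1) :
    (n : Cfsg.Spor.Fi24) * y * (n : Cfsg.Spor.Fi24)⁻¹ = eltL ∨
      (n : Cfsg.Spor.Fi24) * y * (n : Cfsg.Spor.Fi24)⁻¹ = ftGen 1 ∨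
      (n : Cfsg.Spor.Fi24) * y * (n : Cfsg.Spor.Fi24)⁻¹ = eltL * ftGen 1 * eltL := by
  haveI := ThreeT.finite24
  obtain ⟨nb, ni, -⟩ := mem_pairC.1 n.2
  obtain ⟨nf, nx⟩ := pm_trio P hn
  have m1 := fiGen_mem (g := 1) (by norm_num)
  have m9 := fiGen_mem (g := 9) (by norm_num)
  have m5 := fiGen_mem (g := 5) (by norm_num)
  have k1 := perp_node (g := 1) le_rfl (by norm_num)
  have k9 := perp_node (g := 9) (by norm_num) (by norm_num)
  have k5 := perp_node (g := 5) (by norm_num) (by norm_num)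
  have ylink : ∀ {x : Cfsg.Spor.Fi23}, x ∈ Fi23P.transp → Perp x → y ∈ link transp24 (hat x) := fun hx hk => by
    rcases hy with rfl | rfl
    exacts [eltL_link hx, k_link hk]
  have nlink : ∀ {x : Cfsg.Spor.Fi23}, x ∈ Fi23P.transp → Perp x → Commute (n : Cfsg.Spor.Fi24) (hat x) →
      (n : Cfsg.Spor.Fi24) * y * (n : Cfsg.Spor.Fi24)⁻¹ ∈ link transp24 (hat x) := fun hx hk hc => by
    have h := CfsgLib.ThreeTransp.link_conj tt24 (n : Cfsg.Spor.Fi24) (ylink hx hk)
    rwa [hc.eq, mul_inv_cancel_right] at h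
  refine CfsgLib.M24.Glue.only_triple setup24 (p := hat (Fi23P.fiGen 1)) (q := hat (Fi23P.fiGen 9))
    (r := hat (Fi23P.fiGen 5)) (hat_mem m1)
    (hat_link_hat m9 (fiGen_ne (by norm_num) (by norm_num) (by norm_num)) (fi_comm (by norm_num) (by norm_num) (by decide)))
    ⟨hat_link_hat m5 (fiGen_ne (by norm_num) (by norm_num) (by norm_num)) (fi_comm (by norm_num) (by norm_num) (by decide)),
      hat_link_hat m5 (fiGen_ne (by norm_num) (by norm_num) (by norm_num)) (fi_comm (by norm_num) (by norm_num) (by decide))⟩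
    ⟨⟨eltL_link m1, eltL_link m9⟩, eltL_link m5⟩ ⟨⟨k_link k1, k_link k9⟩, k_link k5⟩
    ⟨⟨nlink m1 k1 nb, nlink m9 k9 ni⟩, nlink m5 k5 nf⟩ k_not_commute ?_
  intro x hx hc
  have hyx : Commute y x := by
    rcases hy with rfl | rfl
    exacts [hc.1.2.2, hc.2.2.2]
  have h := (Commute.conj_iff (n : Cfsg.Spor.Fi24)).2 hyx
  rwa [(nx x hx hc).eq, mul_inv_cancel_right] at h

/-- Fixing both generators. -/
theorem pm_fixed {n : ↥(pairC (Fi23P.fiGen 1) (Fi23P.fiGen 9))} (hn : Pairs E (P.θ n))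
    (hl : Commute (n : Cfsg.Spor.Fi24) eltL) (hk : Commute (n : Cfsg.Spor.Fi24) (ftGen 1)) : n = 1 := by
  obtain ⟨nb, -, ns⟩ := mem_pairC.1 n.2
  obtain ⟨u, hu⟩ := exists_psi ns hl
  have hm : psi u ∈ pairC (Fi23P.fiGen 1) (Fi23P.fiGen 9) := hu ▸ n.2
  have hθ : P.θ n = E.F u := by rw [← P.agree u hm]; exact congrArg P.θ (Subtype.ext hu.symm)
  have hu1 : Commute u (Fi23P.fiGen 1) := psi_commute_hat.1 (hu ▸ nb)
  have hu' : u = 1 := node_kernel (hu ▸ hk) fun g h1 hg => by
    have h := hn 1 g le_rfl (by norm_num) h1 hg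
    rw [hθ] at h
    have h' := hu1.mul_right (show Commute u (Fi23P.fiGen 1 * Fi23P.fiGen g) from
      E.inj (by rw [map_mul E.F u, map_mul E.F _ u]; exact h.eq))
    rwa [← mul_assoc, Fi23P.fiGen_sq 1 (by norm_num), one_mul] at h'
  exact Subtype.ext (by rw [← hu, hu', map_one]; rfl)

/-- Commuting with the products of two nodes and of order dividing three. -/
theorem pm_char (hP : Pairs E (P.rot (perp_node le_rfl (by norm_num)) (perp_node (by norm_num) (by norm_num))))
    {r : G} (h3 : r * r * r = 1) (hr : Pairs E r) :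
    r = 1 ∨ r = P.rot (perp_node le_rfl (by norm_num)) (perp_node (by norm_num) (by norm_num)) ∨
      r = (P.rot (perp_node le_rfl (by norm_num)) (perp_node (by norm_num) (by norm_num)))⁻¹ := by
  set R := P.rot (perp_node le_rfl (by norm_num)) (perp_node (by norm_num) (by norm_num)) with hRdef
  obtain ⟨n, rfl⟩ := P.cover (Fi23P.fiGen 5) (fiGen_mem (by norm_num))
    (fiGen_ne (by norm_num) (by norm_num) (by norm_num)) (fiGen_ne (by norm_num) (by norm_num) (by norm_num))
    (fi_comm (by norm_num) (by norm_num) (by decide)) (fi_comm (by norm_num) (by norm_num) (by decide)) r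
    (hr 1 9 le_rfl (by norm_num) (by norm_num) (by norm_num))
    (hr 1 5 le_rfl (by norm_num) (by norm_num) (by norm_num))
  set k₁ : ↥(pairC (Fi23P.fiGen 1) (Fi23P.fiGen 9)) :=
    ⟨kl, kl_mem (perp_node le_rfl (by norm_num)) (perp_node (by norm_num) (by norm_num))⟩
  set L := eltL * ftGen 1 * eltL with hL
  set N := (n : Cfsg.Spor.Fi24) with hN
  have n3 : N * N * N = 1 := congrArg Subtype.val (P.inj (a₁ := n * n * n) (a₂ := 1) (by
    rw [map_mul, map_mul, map_one]; exact h3))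
  have cyc : ∀ y : Cfsg.Spor.Fi24, N * (N * (N * y * N⁻¹) * N⁻¹) * N⁻¹ = y := fun y => by
    calc N * (N * (N * y * N⁻¹) * N⁻¹) * N⁻¹ = N * N * N * y * (N * N * N)⁻¹ := by group
      _ = y := by rw [n3, one_mul, inv_one, mul_one]
  have kL : ftGen 1 ≠ L := fun e => k_ne_l (by
    have e' : ftGen 1 = ftGen 1 * eltL * ftGen 1 := e.trans kl_braid
    have e'' : ftGen 1 * eltL = 1 := mul_right_cancel (e'.symm.trans (one_mul _).symm)
    rw [← mul_one (ftGen 1), ← eltL_sq, ← mul_assoc, e'', one_mul])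
  have lL : eltL ≠ L := fun e => k_ne_l (by
    have e'' : eltL * ftGen 1 = 1 := mul_right_cancel (e.symm.trans (one_mul _).symm)
    rw [← one_mul (ftGen 1), ← eltL_sq, mul_assoc, e'', mul_one])
  have conj3 : ∀ a b : Cfsg.Spor.Fi24, N * (a * b * a) * N⁻¹ = N * a * N⁻¹ * (N * b * N⁻¹) * (N * a * N⁻¹) :=
    fun a b => by group
  have swap : ∀ y w : Cfsg.Spor.Fi24, y ≠ w → N * y * N⁻¹ = w → N * w * N⁻¹ = y → False := fun y w hne h1 h2 => by
    have := cyc y
    rw [h1, h2, h1] at this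
    exact hne this.symm
  have inj : ∀ y w : Cfsg.Spor.Fi24, N * y * N⁻¹ = N * w * N⁻¹ → y = w :=
    fun y w h => mul_left_cancel (mul_right_cancel h)
  -- conjugating by the product and by its inverse
  have ck : kl * ftGen 1 * kl⁻¹ = eltL := by
    rw [kl_inv, kl]
    calc ftGen 1 * eltL * ftGen 1 * (eltL * ftGen 1) = eltL * ftGen 1 * eltL * (eltL * ftGen 1) := by rw [kl_braid]
      _ = eltL := by simp only [mul_assoc, ll_cancel, kk_cancel, k_sq, mul_one]
  have cL : kl⁻¹ * L * kl⁻¹⁻¹ = eltL := by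
    rw [inv_inv, kl_inv, kl, hL, kl_braid]
    simp only [mul_assoc, ll_cancel, kk_cancel]
  have c2L : kl⁻¹ * (kl⁻¹ * L * kl⁻¹⁻¹) * kl⁻¹⁻¹ = ftGen 1 := by
    rw [cL, inv_inv]
    calc kl⁻¹ * eltL * kl = eltL * ftGen 1 * eltL * ftGen 1 * eltL := by
          rw [kl_inv, kl]; simp only [mul_assoc]
      _ = ftGen 1 * eltL * ftGen 1 * ftGen 1 * eltL := by rw [kl_braid]
      _ = ftGen 1 := by simp only [mul_assoc, kk_cancel, eltL_sq, mul_one]
  have inv_k : kl⁻¹ * eltL * kl⁻¹⁻¹ = ftGen 1 := cL ▸ c2L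
  have inv_L : kl * eltL * kl⁻¹ = L := by
    calc kl * eltL * kl⁻¹ = kl * (kl⁻¹ * L * kl⁻¹⁻¹) * kl⁻¹ := by rw [cL]
      _ = L := by group
  have kl_L : kl * L * kl⁻¹ = ftGen 1 := by
    calc kl * L * kl⁻¹ = kl * (kl * eltL * kl⁻¹) * kl⁻¹ := by rw [inv_L]
      _ = (kl * kl * kl) * (kl⁻¹ * eltL * kl⁻¹⁻¹) * (kl * kl * kl)⁻¹ := by group
      _ = ftGen 1 := by rw [kl_cube, inv_k, one_mul, inv_one, mul_one]
  have inv1_k : kl⁻¹ * ftGen 1 * kl⁻¹⁻¹ = L := by
    calc kl⁻¹ * ftGen 1 * kl⁻¹⁻¹ = kl⁻¹ * (kl * L * kl⁻¹) * kl⁻¹⁻¹ := by rw [kl_L]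
      _ = L := by group
  -- an element fixing the first generator
  have finish : ∀ m : ↥(pairC (Fi23P.fiGen 1) (Fi23P.fiGen 9)), Pairs E (P.θ m) →
      (m : Cfsg.Spor.Fi24) * eltL * (m : Cfsg.Spor.Fi24)⁻¹ = eltL →
      m = 1 ∨ (m : Cfsg.Spor.Fi24) * ftGen 1 * (m : Cfsg.Spor.Fi24)⁻¹ = L := fun m hm hl => by
    rcases pm_orbit P hm (.inr rfl) with h | h | h
    · exact absurd (mul_left_cancel (mul_right_cancel (h.trans hl.symm))) k_ne_l
    · exact .inl (pm_fixed P hm (mul_inv_eq_iff_eq_mul.1 hl) (mul_inv_eq_iff_eq_mul.1 h))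
    · exact .inr h
  have hk₁ : Pairs E (P.θ k₁) := hP
  rcases pm_orbit P hr (.inl rfl) with h | h | h
  · rcases finish n hr h with h0 | h'
    · exact .inl (by rw [h0, map_one])
    · exfalso
      refine swap _ _ kL h' ?_
      rw [hL, conj3, h, h', hL]
      simp only [mul_assoc, ll_cancel, eltL_sq, mul_one]
  · have hm : Pairs E (P.θ (k₁ * n)) := fun g g' a b c d => by
      rw [map_mul]; exact (hk₁ g g' a b c d).mul_left (hr g g' a b c d)
    rcases finish (k₁ * n) hm (by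
      show kl * N * eltL * (kl * N)⁻¹ = eltL
      calc kl * N * eltL * (kl * N)⁻¹ = kl * (N * eltL * N⁻¹) * kl⁻¹ := by group
        _ = eltL := by rw [h, ck]) with h' | h'
    · right; right
      have := congrArg P.θ h'
      rw [map_mul, map_one] at this
      exact (inv_eq_of_mul_eq_one_right this).symm
    · exfalso
      refine swap eltL (ftGen 1) k_ne_l.symm h ?_
      change kl * N * ftGen 1 * (kl * N)⁻¹ = L at h'
      calc N * ftGen 1 * N⁻¹ = kl⁻¹ * (kl * N * ftGen 1 * (kl * N)⁻¹) * kl⁻¹⁻¹ := by group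
        _ = eltL := by rw [h', cL]
  · have hm : Pairs E (P.θ (k₁⁻¹ * n)) := fun g g' a b c d => by
      rw [map_mul, map_inv]; exact (hk₁ g g' a b c d).inv_left.mul_left (hr g g' a b c d)
    rcases finish (k₁⁻¹ * n) hm (by
      show kl⁻¹ * N * eltL * (kl⁻¹ * N)⁻¹ = eltL
      calc kl⁻¹ * N * eltL * (kl⁻¹ * N)⁻¹ = kl⁻¹ * (N * eltL * N⁻¹) * kl⁻¹⁻¹ := by group
        _ = eltL := by rw [h, ← hL, cL]) with h' | h'
    · right; left
      have := congrArg P.θ h'
      rw [map_mul, map_inv, map_one, inv_mul_eq_one] at this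
      exact this.symm
    · exfalso
      have hfix : N * ftGen 1 * N⁻¹ = ftGen 1 := by
        change kl⁻¹ * N * ftGen 1 * (kl⁻¹ * N)⁻¹ = L at h'
        calc N * ftGen 1 * N⁻¹ = kl * (kl⁻¹ * N * ftGen 1 * (kl⁻¹ * N)⁻¹) * kl⁻¹ := by group
          _ = ftGen 1 := by rw [h', kl_L]
      refine swap eltL L lL h ?_
      rw [hL, conj3, h, hfix]
      calc _ = eltL * ftGen 1 * eltL * ftGen 1 * (eltL * ftGen 1 * eltL) := rfl
        _ = ftGen 1 * eltL * ftGen 1 * ftGen 1 * (ftGen 1 * eltL * ftGen 1) := by rw [kl_braid]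
        _ = ftGen 1 * (eltL * ftGen 1 * eltL) * ftGen 1 := by simp only [mul_assoc, kk_cancel]
        _ = eltL := by rw [kl_braid]; simp only [mul_assoc, kk_cancel, k_sq, mul_one]

end CfsgLib.LargeFischer.Prime
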