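import Cfsg.Agent.Lib.ThreeTransp.M22Extra
import Cfsg.Agent.Lib.ThreeTransp.M24Glue.Lemmas

/-!
# Groups of type `M(24)`: members seeing the common neighbours of a pair inside a commuting triple

In the common link of three pairwise commuting members, a member `f` commuting with every common neighbour of
non-commuting `l`, `z` there is `l`, `z` or `l z l`.
-/

set_option autoImplicit false
set_option linter.unusedSectionVars false

namespace CfsgLib.M22

open CfsgLib.ThreeTransp CfsgLib.SporMisc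
open CfsgLib.U6 (IsPt)
open CfsgLib.PSUAut (Isot)

variable {G : Type*} [Group G] {D : Set G}
variable [Finite G] (S : Setup D) {F : Type} [Field F] [Fintype F] (hF : Fintype.card F = 2 ^ 2)
  (hM : ∀ a ∈ D, Nonempty (Model D a F))
include S hF hM

/-- Inside one link, a member commuting with the common neighbours of a non-commuting pair. -/
theorem only_at {x a c c' : G} (hx : x ∈ D) (la : a ∈ link D x) (lc : c ∈ link D x) (lc' : c' ∈ link D x)
    (hnc : ¬ Commute a c)     (hall : ∀ f ∈ link D x, f ∈ link D a → f ∈ link D c → Commute c' f) : c' = a ∨ c' = c ∨ c' = a * c * a := by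
  obtain ⟨X⟩ := hM x hx
  obtain ⟨u, hu⟩ := X.exists_pt_of_link S hF hx la
  obtain ⟨y, hy⟩ := X.exists_pt_of_link S hF hx lc
  obtain ⟨y', hy'⟩ := X.exists_pt_of_link S hF hx lc'
  have hyu : Cfsg.hermForm 6 F 2 y u ≠ 0 := fun h0 =>
    hnc ((X.comm_iff S hF hx lc la hy hu).2 h0).symm
  have hspan : y' ∈ Submodule.span F {u, y} := by
    refine (U6.mem_span_iff hF hu.1 hy.1 hy'.1).2 fun s hs hsu hsy => ?_
    obtain ⟨Z, hZ⟩ := U6.exists_pt hF hs
    obtain ⟨f, lf, rfl⟩ := X.exists_link_of_pt S hF hx hZ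
    have cfa : Commute f a := (X.comm_iff S hF hx lf la hZ hu).2 hsu
    have cfc : Commute f c := (X.comm_iff S hF hx lf lc hZ hy).2 hsy
    have hfa : f ≠ a := fun e => hnc (e ▸ cfc)
    have hfc : f ≠ c := fun e => hnc (e ▸ cfa.symm)
    exact (X.comm_iff S hF hx lf lc' hZ hy').1
      (hall f lf ⟨lf.1, hfa, cfa.symm⟩ ⟨lf.1, hfc, cfc.symm⟩).symm
  by_cases hy'u : Cfsg.hermForm 6 F 2 y' u = 0
  · obtain ⟨α, β, e⟩ := Submodule.mem_span_pair.1 hspan
    have h1 := hy'u
    rw [← e, U6.add_left hF, U6.smul_left hF, U6.smul_left hF, hu.1.2, mul_zero, zero_add] at h1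
    rw [(mul_eq_zero.1 h1).resolve_right hyu, zero_smul, add_zero] at e
    exact Or.inl (X.img_inj S hx lc' la (IsPt.eq_of_smul hF hu hy' e.symm).symm)
  right
  obtain ⟨t, ht0, ht | ht⟩ := U6.chord_cases hF hu.1 hy.1 hy'.1 hyu hy'u hspan
  · exact Or.inl (X.img_inj S hx lc' lc (IsPt.eq_of_smul hF hy hy' ht).symm)
  · right
    obtain ⟨-, g, hg, hgx⟩ := hu
    have h1 := hy.conj hF g
    rw [hg, hgx] at h1
    have lac : a * c * a⁻¹ ∈ link D x := link_conj_fix S la.2.2.symm lc
    have himg : X.img lac = X.img la * X.img lc * (X.img la)⁻¹ :=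
      X.img_conj S lc ⟨a, Subgroup.subset_closure la⟩
    rw [← himg] at h1
    rw [← X.img_inj S hx lac lc' (IsPt.eq_of_smul hF h1 hy' ht), S.tt.inv_eq la.1]

end CfsgLib.M22

namespace CfsgLib.M24.Glue

open CfsgLib.ThreeTransp
open CfsgLib.FischerPair
open CfsgLib.M23 (E Q pj pj_mem)

variable {G : Type*} [Group G] {D : Set G}
variable [Finite G] (S : Setup D)
include S

/-- In the common link of a commuting triple a member with the common neighbours of `l`, `z` among its
neighbours is `l`, `z` or their conjugate. -/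
theorem only_triple {p q r l z f : G} (hp : p ∈ D) (hq : q ∈ link D p) (hr : r ∈ link D p ∩ link D q)
    (hl : l ∈ link D p ∩ link D q ∩ link D r) (hz : z ∈ link D p ∩ link D q ∩ link D r)
    (hf : f ∈ link D p ∩ link D q ∩ link D r) (hlz : ¬ Commute l z)
    (hall : ∀ x ∈ link D p ∩ link D q ∩ link D r, x ∈ common D l z → Commute f x) :
    f = l ∨ f = z ∨ f = l * z * l := by
  have T := S.link_setup hp
  have H := linkHyp S
  have H' := M23.linkHyp T
  have hqE : pj hq ∈ E D p := pj_mem hq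
  obtain ⟨F, _, _, hF, hM⟩ := (T.link_setup hqE).exists_models
  have up : ∀ {x : G} (hx : x ∈ link D p ∩ link D q), pj hx.1 ∈ link (E D p) (pj hq) :=
    fun hx => (H.mem_link_iff hp hq hx.1).2 hx.2
  have nc2 : ∀ {x y : G} (hx : x ∈ link D p ∩ link D q) (hy : y ∈ link D p ∩ link D q), ¬ Commute x y →
      ¬ Commute (pj (up hx)) (pj (up hy)) :=
    fun hx hy hn h => hn ((H.comm hp hx.1 hy.1).1 ((H'.comm hqE (up hx) (up hy)).1 h))
  have lk : ∀ {x y : G} (hx : x ∈ link D p ∩ link D q) (hy : y ∈ link D p ∩ link D q), y ∈ link D x →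
      pj (up hy) ∈ link (E (E D p) (pj hq)) (pj (up hx)) :=
    fun hx hy h => (H'.mem_link_iff hqE (up hx) (up hy)).2 ((H.mem_link_iff hp hx.1 hy.1).2 h)
  have lzl : l * z * l ∈ link D p ∩ link D q := by
    have h1 := link_conj S.tt l hz.1.1
    have h2 := link_conj S.tt l hz.1.2
    rw [hl.1.1.2.2.symm.eq, mul_inv_cancel_right, S.tt.inv_eq hl.1.1.1] at h1
    rw [hl.1.2.2.2.symm.eq, mul_inv_cancel_right, S.tt.inv_eq hl.1.1.1] at h2
    exact ⟨h1, h2⟩
  have key := M22.only_at (T.link_setup hqE) hF hM (pj_mem (up hr)) (lk hr hl.1 hl.2) (lk hr hz.1 hz.2)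
    (lk hr hf.1 hf.2) (nc2 hl.1 hz.1 hlz) (fun e he hel hez => by
      obtain ⟨q', lq', rfl⟩ := CfsgLib.M23.Setup.pj_surj he.1
      obtain ⟨x, lx, rfl⟩ := CfsgLib.M23.Setup.pj_surj lq'.1
      have hx : x ∈ link D p ∩ link D q := ⟨lx, (H.mem_link_iff hp hq lx).1 lq'⟩
      have back : ∀ {y : G} (hy : y ∈ link D p ∩ link D q),
          pj lq' ∈ link (E (E D p) (pj hq)) (pj (up hy)) → x ∈ link D y :=
        fun hy h => (H.mem_link_iff hp hy.1 lx).1 ((H'.mem_link_iff hqE (up hy) lq').1 h)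
      exact (H'.comm hqE (up hf.1) lq').2 ((H.comm hp hf.1.1 lx).2
        (hall x ⟨hx, back hr he⟩ ⟨back hl.1 hel, back hz.1 hez⟩)))
  rcases key with h | h | h
  · exact Or.inl (H.inj hp hf.1.1 hl.1.1 (H'.inj hqE (up hf.1) (up hl.1) h))
  · refine Or.inr ?_; exact Or.inl (H.inj hp hf.1.1 hz.1.1 (H'.inj hqE (up hf.1) (up hz.1) h))
  · refine Or.inr ?_; exact Or.inr (H.inj hp hf.1.1 lzl.1 (H'.inj hqE (up hf.1) (up lzl) h))

end CfsgLib.M24.Glue
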