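import Cfsg.Agent.Lib.LargeFischer.Prime.Defs
import Cfsg.Agent.Lib.LargeFischer.Prime.Triple
import Cfsg.Agent.Lib.Fi24P.ThreeT.Types

/-!
# The transpositions of `Fi23` as members of the link of the first generator of `Fi24`
-/

set_option autoImplicit false
set_option maxRecDepth 100000
set_option linter.style.haveILetI false

namespace CfsgLib.LargeFischer.Prime

open CfsgLib.PresCert CfsgLib.Fi24P CfsgLib.Fi24P.ThreeT Subgroup
open CfsgLib.ThreeTransp (link)
open CfsgLib.FischerPair (common)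

attribute [local irreducible] relShort Fi23P.relShort Fi23P.levels Fi23P.wordA Fi23P.baseL

theorem fiGen_hat {g : ℕ} (hg : g < 10) : psi (Fi23P.fiGen g) * eltL = ftGen (g + 2) := by
  rw [psi_gen hg, smallGen, mul_assoc, eltL_sq, mul_one]

theorem psi_hat_mul (x y : Cfsg.Spor.Fi23) : psi x * eltL * (psi y * eltL) = psi (x * y) := by
  rw [map_mul, mul_assoc, ← mul_assoc eltL, psi_comm, mul_assoc, eltL_sq, mul_one]

theorem fi_comm {g h : ℕ} (hg : g < 10) (hh : h < 10)
    (hm : (g + 2, h + 2) ∈ commList ∨ (h + 2, g + 2) ∈ commList) : Commute (Fi23P.fiGen g) (Fi23P.fiGen h) := by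
  refine psi_injective ?_
  rw [← psi_hat_mul, ← psi_hat_mul, fiGen_hat hg, fiGen_hat hh]
  rcases hm with hm | hm
  exacts [gen_comm hm, (gen_comm hm).symm]

theorem fi_braid {g h : ℕ} (hg : g < 10) (hh : h < 10)
    (hm : (g + 2, h + 2) ∈ braidList ∨ (h + 2, g + 2) ∈ braidList) :
    Fi23P.fiGen g * Fi23P.fiGen h * Fi23P.fiGen g = Fi23P.fiGen h * Fi23P.fiGen g * Fi23P.fiGen h := by
  refine psi_injective (mul_right_cancel (b := eltL) ?_)
  have key : ∀ x y : Cfsg.Spor.Fi23, psi (x * y * x) * eltL = psi x * eltL * (psi y * eltL) * (psi x * eltL) :=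
    fun x y => by rw [psi_hat_mul, map_mul, mul_assoc]
  rw [key, key, fiGen_hat hg, fiGen_hat hh]
  rcases hm with hm | hm
  exacts [gen_braid hm, (gen_braid hm).symm]

/-- A product of two braided involutions carries the first to the second. -/
theorem carry {M : Type*} [Group M] {a b : M} (ha : a * a = 1) (hb : b * b = 1)
    (h : a * b * a = b * a * b) : a * b * a * (a * b)⁻¹ = b := by
  rw [mul_inv_rev, inv_eq_of_mul_eq_one_right ha, inv_eq_of_mul_eq_one_right hb, h]
  simp only [mul_assoc]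
  rw [← mul_assoc b b, hb, one_mul, ha, mul_one]

theorem transp_conj {x : Cfsg.Spor.Fi23} (hx : x ∈ Fi23P.transp) (y : Cfsg.Spor.Fi23) :
    y * x * y⁻¹ ∈ Fi23P.transp := by
  have h : IsConj Fi23P.eltT x := hx
  exact h.trans (isConj_iff.2 ⟨y, rfl⟩)

theorem fiGen_mem {g : ℕ} (hg : g < 10) : Fi23P.fiGen g ∈ Fi23P.transp := by
  have h0 : Fi23P.fiGen 0 ∈ Fi23P.transp := isConj_iff.2 ⟨_, Fi23P.first_conj.symm⟩
  have step : ∀ {p q : ℕ}, p < 10 → q < 10 → ((p + 2, q + 2) ∈ braidList ∨ (q + 2, p + 2) ∈ braidList) →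
      Fi23P.fiGen p ∈ Fi23P.transp → Fi23P.fiGen q ∈ Fi23P.transp := fun hp hq hm h => by
    rw [← carry (Fi23P.fiGen_sq _ hp) (Fi23P.fiGen_sq _ hq) (fi_braid hp hq hm)]
    exact transp_conj h _
  have h1 := step (p := 0) (q := 1) (by norm_num) (by norm_num) (by decide) h0
  have h2 := step (p := 1) (q := 2) (by norm_num) (by norm_num) (by decide) h1
  have h3 := step (p := 2) (q := 3) (by norm_num) (by norm_num) (by decide) h2
  have h4 := step (p := 3) (q := 4) (by norm_num) (by norm_num) (by decide) h3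
  have h5 := step (p := 4) (q := 5) (by norm_num) (by norm_num) (by decide) h4
  have h6 := step (p := 5) (q := 6) (by norm_num) (by norm_num) (by decide) h5
  have h7 := step (p := 6) (q := 7) (by norm_num) (by norm_num) (by decide) h6
  have h8 := step (p := 3) (q := 8) (by norm_num) (by norm_num) (by decide) h3
  have h9 := step (p := 8) (q := 9) (by norm_num) (by norm_num) (by decide) h8
  interval_cases g <;> assumption

theorem gens_apart : ((List.range 10).all fun g => (List.range 10).all fun h => Nat.beq g h ||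
    [6, 4, 2, 0, 7].any fun i => !(Nat.beq (Fi23P.tab.walk i [g]) (Fi23P.tab.walk i [h]))) = true := by
  decide +kernel

theorem fiGen_ne {g h : ℕ} (hg : g < 10) (hh : h < 10) (hne : g ≠ h) : Fi23P.fiGen g ≠ Fi23P.fiGen h := by
  intro e
  have h' := List.all_eq_true.1 (List.all_eq_true.1 gens_apart g (List.mem_range.2 hg)) h (List.mem_range.2 hh)
  simp only [Bool.or_eq_true, List.any_eq_true, Bool.not_eq_true'] at h'
  rcases h' with h' | ⟨i, hi, h'⟩
  · exact hne (Nat.beq_eq.mp h')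
  have hi' : i < Fi23P.tab.n := by
    rw [Fi23P.tab_n]; simp only [List.mem_cons, List.not_mem_nil, or_false] at hi; omega
  have e' := congrArg (fun m => ((Fi23P.phi m ⟨i, hi'⟩ : Fin Fi23P.tab.n) : ℕ)) e
  have e1 := Fi23P.realised.act_apply (w := [g]) (fun a ha => List.mem_singleton.1 ha ▸ hg) ⟨i, hi'⟩
  have e2 := Fi23P.realised.act_apply (w := [h]) (fun a ha => List.mem_singleton.1 ha ▸ hh) ⟨i, hi'⟩
  simp only [act_cons, act_nil, one_mul] at e1 e2
  simp only [e1, e2] at e'
  rw [Nat.beq_eq.mpr e'] at h'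
  exact Bool.noConfusion h'

theorem transp_sq {x : Cfsg.Spor.Fi23} (hx : x ∈ Fi23P.transp) : x * x = 1 := setup23.tt.sq x hx

/-- The member of the link above a transposition. -/
noncomputable def hat (x : Cfsg.Spor.Fi23) : Cfsg.Spor.Fi24 := psi x * eltL

theorem hat_gen {g : ℕ} (hg : g < 10) : hat (Fi23P.fiGen g) = ftGen (g + 2) := fiGen_hat hg

theorem hat_mul (x y : Cfsg.Spor.Fi23) : hat x * hat y = psi (x * y) := psi_hat_mul x y

theorem hat_inj {x y : Cfsg.Spor.Fi23} : hat x = hat y ↔ x = y :=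
  ⟨fun h => psi_injective (mul_right_cancel h), fun h => h ▸ rfl⟩

theorem hat_commute_eltL (x : Cfsg.Spor.Fi23) : Commute (hat x) eltL :=
  (show Commute (psi x) eltL from (psi_comm x).symm).mul_left (Commute.refl _)

theorem hat_commute {x y : Cfsg.Spor.Fi23} : Commute (hat x) (hat y) ↔ Commute x y := by
  constructor
  · intro h
    refine psi_injective ?_
    rw [← hat_mul, ← hat_mul]
    exact h.eq
  · intro h
    show hat x * hat y = hat y * hat x
    rw [hat_mul, hat_mul, h.eq]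

theorem hat_conj (x y : Cfsg.Spor.Fi23) : psi y * hat x * (psi y)⁻¹ = hat (y * x * y⁻¹) := by
  have h : eltL * (psi y)⁻¹ = (psi y)⁻¹ * eltL := by
    rw [← map_inv]; exact psi_comm _
  rw [hat, hat, map_mul, map_mul, map_inv]
  simp only [mul_assoc, h]

theorem hat_link {x : Cfsg.Spor.Fi23} (hx : x ∈ Fi23P.transp) : hat x ∈ link transp24 eltL := by
  obtain ⟨g, rfl⟩ := isConj_iff.1 (show IsConj Fi23P.eltT x from hx)
  rw [link_eltL, ← Fi23P.Tri.refl_origin, Fi23P.Tri.refl_conj]
  exact ⟨_, rfl⟩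

theorem link_hat {f : Cfsg.Spor.Fi24} (hf : f ∈ link transp24 eltL) : ∃ x ∈ Fi23P.transp, hat x = f := by
  rw [link_eltL] at hf
  obtain ⟨q, rfl⟩ := hf
  exact ⟨_, isConj_iff.2 ⟨_, rfl⟩, rfl⟩

theorem hat_mem {x : Cfsg.Spor.Fi23} (hx : x ∈ Fi23P.transp) : hat x ∈ transp24 := (hat_link hx).1

theorem hat_sq {x : Cfsg.Spor.Fi23} (hx : x ∈ Fi23P.transp) : hat x * hat x = 1 := by
  rw [hat_mul, transp_sq hx, map_one]

theorem hat_link_hat {x y : Cfsg.Spor.Fi23} (hy : y ∈ Fi23P.transp) (hne : x ≠ y) (hc : Commute x y) :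
    hat y ∈ link transp24 (hat x) :=
  ⟨hat_mem hy, fun h => hne (hat_inj.1 h).symm, hat_commute.2 hc⟩

/-- The elements of sign one commuting with the first generator. -/
theorem exists_psi {m : Cfsg.Spor.Fi24} (hs : signHom m = 1) (hc : Commute m eltL) : ∃ z, psi z = m := by
  have hm : m ∈ subgH := centralizer_eltL.le (mem_centralizer_singleton_iff.2 hc.eq)
  obtain ⟨z, h | h⟩ := subgH_cases hm
  · exact ⟨z, h.symm⟩
  · rw [h, map_mul, psi_sign, one_mul, show signHom eltL = -1 from signHom_gen 0] at hs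
    exact absurd hs (by decide)

/-- Two neighbours of a transposition are carried into each other by its centraliser. -/
theorem move23 {c x y : Cfsg.Spor.Fi23} (hc : c ∈ Fi23P.transp) (hx : x ∈ Fi23P.transp) (hy : y ∈ Fi23P.transp)
    (hxc : x ≠ c) (hyc : y ≠ c) (cx : Commute c x) (cy : Commute c y) :
    ∃ k, Commute k c ∧ k * x * k⁻¹ = y := by
  haveI := Fi23P.card_fi.1
  have lx : x ∈ link Fi23P.transp c := ⟨hx, hxc, cx⟩
  have ly : y ∈ link Fi23P.transp c := ⟨hy, hyc, cy⟩
  obtain ⟨q, hq⟩ := (setup23.link_setup hc).cls (CfsgLib.M23.pj_mem lx) (CfsgLib.M23.pj_mem ly)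
  obtain ⟨k, rfl⟩ := QuotientGroup.mk_surjective q
  have hk : Commute (k : Cfsg.Spor.Fi23) c := CfsgLib.ThreeTransp.Factor.linkSub_commute k.2
  refine ⟨k, hk, setup23.pj_inj hc (setup23.link_conj_fix hk lx) ly ?_⟩
  rw [← hq]
  rfl

/-- The triple lemma among the members above transpositions. -/
theorem only_triple23 {a d j g v : Cfsg.Spor.Fi23} (ha : a ∈ Fi23P.transp) (hd : d ∈ Fi23P.transp)
    (had : a ≠ d) (cad : Commute a d) (hj : j ∈ Fi23P.transp) (hg : g ∈ Fi23P.transp) (hv : v ∈ Fi23P.transp)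
    (la : ∀ {x : Cfsg.Spor.Fi23}, x = j ∨ x = g ∨ x = v → x ≠ a ∧ x ≠ d ∧ Commute a x ∧ Commute d x)
    (hjg : ¬ Commute j g)
    (hall : ∀ x ∈ Fi23P.transp, Commute a x → Commute d x → Commute j x → Commute g x → Commute v x) :
    v = j ∨ v = g ∨ v = j * g * j := by
  haveI := ThreeT.finite24
  have hl : ∀ {x : Cfsg.Spor.Fi23}, x ∈ Fi23P.transp → x = j ∨ x = g ∨ x = v →
      hat x ∈ link transp24 eltL ∩ link transp24 (hat a) ∩ link transp24 (hat d) := fun hx h => by
    obtain ⟨h1, h2, h3, h4⟩ := la h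
    exact ⟨⟨hat_link hx, hat_link_hat hx h1.symm h3⟩, hat_link_hat hx h2.symm h4⟩
  rcases CfsgLib.M24.Glue.only_triple setup24 (p := eltL) (q := hat a) (r := hat d) (l := hat j) (z := hat g)
      (f := hat v) mem_conjugatesOf_self (hat_link ha)
      ⟨hat_link hd, hat_link_hat hd had cad⟩ (hl hj (.inl rfl)) (hl hg (.inr (.inl rfl))) (hl hv (.inr (.inr rfl)))
      (fun h => hjg (hat_commute.1 h)) (fun x hx hc => by
        obtain ⟨y, hy, rfl⟩ := link_hat hx.1.1
        exact hat_commute.2 (hall y hy (hat_commute.1 hx.1.2.2.2) (hat_commute.1 hx.2.2.2)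
          (hat_commute.1 hc.1.2.2) (hat_commute.1 hc.2.2.2))) with h | h | h
  · exact .inl (hat_inj.1 h)
  · exact .inr (.inl (hat_inj.1 h))
  · refine .inr (.inr (hat_inj.1 ?_))
    rw [h, hat_mul, hat, hat, ← mul_assoc, ← map_mul]

end CfsgLib.LargeFischer.Prime
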