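import Cfsg.Agent.Lib.LargeFischer.Prime.Kernel
import Cfsg.Agent.Lib.Fi24P.Triple.WitData
import Cfsg.Agent.Lib.Fi23P.MultLift

/-!
# The element of order three over the product of the first two generators
-/

set_option autoImplicit false
set_option maxRecDepth 100000
set_option maxHeartbeats 1000000
set_option linter.style.haveILetI false
set_option linter.unusedSectionVars false

namespace CfsgLib.LargeFischer.Prime

open CfsgLib.PresCert CfsgLib.Fi24P CfsgLib.Fi24P.ThreeT Subgroup
open CfsgLib.LargeFischer.Ext (tri24 tri24_two nodes nodes_comm genH genH_coe piL_node)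

attribute [local irreducible] relShort Fi23P.relShort Fi23P.levels Fi23P.wordA Fi23P.baseL

theorem trace_wit : sameElt (List.replicate 3 (wordTri ++ [3])).flatten Fi24P.Triple.witCube = true ∧
    kLetters Fi24P.Triple.witCube = true ∧ (wordTri.length % 2 == 1) = true := by
  decide +kernel

theorem sign_act : ∀ w : List ℕ, signHom (act ftGen w) = (-1 : ℤˣ) ^ w.length
  | [] => by rw [act_nil, map_one, List.length_nil, pow_zero]
  | g :: w => by rw [act_cons, map_mul, sign_act w, signHom_gen, List.length_cons, pow_succ]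

theorem tri24_sign : signHom (tri24 : Cfsg.Spor.Fi24) = -1 := by
  show signHom (act ftGen wordTri) = -1
  rw [sign_act]
  exact Odd.neg_one_pow (Nat.odd_iff.2 (beq_iff_eq.1 trace_wit.2.2))

variable {G : Type*} [Group G] {z : G} (E : Emb z)

/-- The rotation over the embedding: inverted by the nodes and by the element of the trace. -/
structure Rot where
  R : G
  cube : R * R * R = 1
  ne : R ≠ 1
  inv : ∀ g, 1 ≤ g → g < 10 → E.F (Fi23P.fiGen g) * R * (E.F (Fi23P.fiGen g))⁻¹ = R⁻¹
  braid : R * E.F fa * (R * E.F fa) * (R * E.F fa) = 1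
  braid' : R⁻¹ * E.F fa * (R⁻¹ * E.F fa) * (R⁻¹ * E.F fa) = 1
  tri : E.F (piL tri24) * R * (E.F (piL tri24))⁻¹ = R⁻¹

variable {E}

theorem eq_or_inv {R R' : G} (h : R' = R ∨ R' = R⁻¹) {u : G} (hu : u * R' * u⁻¹ = R'⁻¹) : u * R * u⁻¹ = R⁻¹ := by
  rcases h with rfl | rfl
  · exact hu
  · have := congrArg (·⁻¹) hu
    simpa [mul_assoc] using this

theorem braid_or_inv {R R' : G} (h : R' = R ∨ R' = R⁻¹) {u : G}
    (hu : R' * u * (R' * u) * (R' * u) = 1 ∧ R'⁻¹ * u * (R'⁻¹ * u) * (R'⁻¹ * u) = 1) :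
    R * u * (R * u) * (R * u) = 1 ∧ R⁻¹ * u * (R⁻¹ * u) * (R⁻¹ * u) = 1 := by
  rcases h with rfl | rfl
  · exact hu
  · rw [inv_inv] at hu
    exact hu.symm

theorem Emb.exists_rot (E : Emb z) : Nonempty (Rot E) := by
  have hn : ∀ {g h : ℕ}, g < 10 → h < 10 →
      (g + 2, h + 2) ∈ commList ∨ (h + 2, g + 2) ∈ commList → Commute (Fi23P.fiGen g) (Fi23P.fiGen h) :=
    fun hg hh hm => fi_comm hg hh hm
  have m1 := fiGen_mem (g := 1) (by norm_num)
  have m5 := fiGen_mem (g := 5) (by norm_num)
  have m9 := fiGen_mem (g := 9) (by norm_num)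
  have c19 := hn (g := 1) (h := 9) (by norm_num) (by norm_num) (by decide)
  have c15 := hn (g := 1) (h := 5) (by norm_num) (by norm_num) (by decide)
  have c95 := hn (g := 9) (h := 5) (by norm_num) (by norm_num) (by decide)
  have d19 : Fi23P.fiGen 1 ≠ Fi23P.fiGen 9 := fiGen_ne (by norm_num) (by norm_num) (by norm_num)
  have d51 : Fi23P.fiGen 5 ≠ Fi23P.fiGen 1 := fiGen_ne (by norm_num) (by norm_num) (by norm_num)
  have d59 : Fi23P.fiGen 5 ≠ Fi23P.fiGen 9 := fiGen_ne (by norm_num) (by norm_num) (by norm_num)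
  have k1 := perp_node (g := 1) le_rfl (by norm_num)
  have k5 := perp_node (g := 5) (by norm_num) (by norm_num)
  have k9 := perp_node (g := 9) (by norm_num) (by norm_num)
  obtain ⟨P⟩ := exists_pm E m1 m9 d19 c19
  obtain ⟨P'⟩ := exists_pm E m5 m9 d59 c95.symm
  obtain ⟨P''⟩ := exists_pm E m1 m5 d51.symm c15
  have e' : P'.rot k5 k9 = P.rot k1 k9 ∨ P'.rot k5 k9 = (P.rot k1 k9)⁻¹ :=
    P.step P' m1 m9 m5 d19 d51 d59 c19 c15 c95 k1 k9 k5 (.inr (.inr rfl)) (.inr (.inl rfl)) k5 k9
  have e'' : P''.rot k1 k5 = P.rot k1 k9 ∨ P''.rot k1 k5 = (P.rot k1 k9)⁻¹ :=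
    P.step P'' m1 m9 m5 d19 d51 d59 c19 c15 c95 k1 k9 k5 (.inl rfl) (.inr (.inr rfl)) k1 k5
  set R := P.rot k1 k9 with hR
  have inv : ∀ g, 1 ≤ g → g < 10 → E.F (Fi23P.fiGen g) * R * (E.F (Fi23P.fiGen g))⁻¹ = R⁻¹ := by
    intro g h1 hg
    by_cases h8 : g = 8
    · subst h8
      exact eq_or_inv e'' (P''.rot_inv k1 k5 (hn (by norm_num) (by norm_num) (by decide))
        (hn (by norm_num) (by norm_num) (by decide)) (perp_node (by norm_num) (by norm_num)))
    by_cases h2 : g = 2
    · subst h2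
      exact eq_or_inv e' (P'.rot_inv k5 k9 (hn (by norm_num) (by norm_num) (by decide))
        (hn (by norm_num) (by norm_num) (by decide)) (perp_node (by norm_num) (by norm_num)))
    refine P.rot_inv k1 k9 ?_ ?_ (perp_node h1 hg)
    · by_cases e : g = 1
      · subst e; exact Commute.refl _
      · exact hn hg (by norm_num) (by interval_cases g <;> first | omega | decide)
    · by_cases e : g = 9
      · subst e; exact Commute.refl _
      · exact hn hg (by norm_num) (by interval_cases g <;> first | omega | decide)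
  have hb := braid_or_inv e' (P'.rot_braid k5 k9 (fiGen_mem (g := 0) (by norm_num))
    (hn (g := 0) (h := 5) (by norm_num) (by norm_num) (by decide))
    (hn (g := 0) (h := 9) (by norm_num) (by norm_num) (by decide)) (by
      rw [hat_gen (g := 0) (by norm_num)]
      exact gen_braid (g := 1) (h := 2) (by decide)))
  have hP : Pairs E R := fun g h g1 g10 h1 h10 => by
    have e := inv h h1 h10
    have e2 : E.F (Fi23P.fiGen g) * R⁻¹ * (E.F (Fi23P.fiGen g))⁻¹ = R := by
      have := congrArg (·⁻¹) (inv g g1 g10)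
      simpa [mul_assoc] using this
    rw [map_mul]
    refine (show Commute (E.F (Fi23P.fiGen g) * E.F (Fi23P.fiGen h)) R from mul_inv_eq_iff_eq_mul.1 ?_).symm
    calc E.F (Fi23P.fiGen g) * E.F (Fi23P.fiGen h) * R * (E.F (Fi23P.fiGen g) * E.F (Fi23P.fiGen h))⁻¹
        = E.F (Fi23P.fiGen g) * (E.F (Fi23P.fiGen h) * R * (E.F (Fi23P.fiGen h))⁻¹) *
          (E.F (Fi23P.fiGen g))⁻¹ := by group
      _ = R := by rw [e, e2]
  set T := E.F (piL tri24) with hT
  have hTpairs : Pairs E (T * R * T⁻¹) := fun g h g1 g10 h1 h10 => by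
    have hmem := tri24_two (g := g + 2) (h := h + 2) (by omega) (by omega) (by omega) (by omega)
    have hc := (nodes_pairs hP hmem).1 (by
      simp only [Subgroup.coe_mul, Subgroup.coe_inv, map_mul, map_inv,
        genH_coe (show g + 2 < 12 by omega) (by omega), genH_coe (show h + 2 < 12 by omega) (by omega),
        signHom_gen, tri24_sign]
      decide)
    simp only [map_mul, map_inv, piL_node (show 2 ≤ g + 2 by omega) (show g + 2 < 12 by omega),
      piL_node (show 2 ≤ h + 2 by omega) (show h + 2 < 12 by omega), Nat.add_sub_cancel, ← hT] at hc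
    have := (Commute.conj_iff T).2 hc
    rw [map_mul]
    simpa [mul_assoc] using this
  have hT3 : T * R * T⁻¹ * (T * R * T⁻¹) * (T * R * T⁻¹) = 1 := by
    calc _ = T * (R * R * R) * T⁻¹ := by group
      _ = 1 := by rw [hR, P.rot_cube, mul_one, mul_inv_cancel]
  have htri : T * R * T⁻¹ = R⁻¹ := by
    rcases pm_char P hP hT3 hTpairs with h | h | h
    · exfalso
      refine P.rot_ne k1 k9 ?_
      calc R = T⁻¹ * (T * R * T⁻¹) * T := by group
        _ = 1 := by rw [h, mul_one, inv_mul_cancel]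
    · exfalso
      have hmem : ((genH 3 * tri24) ^ 3 : ↥Fi24P.subgH) ∈ closure nodes := by
        obtain ⟨w1, w2, -⟩ := trace_wit
        have e := CfsgLib.Fi24P.eq_of_sameElt w1
        rw [Fi23P.act_flatten, act_append, act_cons, act_nil, one_mul] at e
        have hk : ∀ w : List ℕ, (∀ g ∈ w, 2 < g ∧ g < 12) →
            ∃ m ∈ closure nodes, (m : Cfsg.Spor.Fi24) = act ftGen w := by
          intro w hw
          induction w with
          | nil => exact ⟨1, one_mem _, by rw [act_nil]; rfl⟩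
          | cons g w ih =>
            obtain ⟨m, hm, e'⟩ := ih fun a ha => hw a (List.mem_cons_of_mem _ ha)
            obtain ⟨g1, g2⟩ := hw g List.mem_cons_self
            exact ⟨m * genH g, mul_mem hm (subset_closure ⟨g, ⟨g1, g2⟩, rfl⟩), by
              rw [Subgroup.coe_mul, e', genH_coe g2 (by omega), act_cons]⟩
        obtain ⟨m, hm, e'⟩ := hk _ (kLetters_spec w2)
        convert hm using 1
        refine Subtype.ext ?_
        rw [Subgroup.coe_pow, Subgroup.coe_mul, genH_coe (by norm_num) (by norm_num), e', ← e]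
        rfl
      have hc := (nodes_pairs hP hmem).1 (by
        rw [Subgroup.coe_pow, map_pow, Subgroup.coe_mul, map_mul, genH_coe (by norm_num) (by norm_num),
          signHom_gen, tri24_sign]
        decide)
      rw [map_pow, map_pow, map_mul, map_mul, piL_node (by norm_num) (by norm_num), ← hT] at hc
      set c := E.F (Fi23P.fiGen (3 - 2)) * T with hcdef
      have hcR : c * R * c⁻¹ = R⁻¹ := by
        calc c * R * c⁻¹ = E.F (Fi23P.fiGen (3 - 2)) * (T * R * T⁻¹) * (E.F (Fi23P.fiGen (3 - 2)))⁻¹ := by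
              rw [hcdef]; group
          _ = R⁻¹ := by rw [h]; exact inv 1 le_rfl (by norm_num)
      have hcR' : c * R⁻¹ * c⁻¹ = R := by
        have := congrArg (·⁻¹) hcR
        simpa [mul_assoc] using this
      have e3 : c ^ 3 * R * (c ^ 3)⁻¹ = R⁻¹ := by
        calc c ^ 3 * R * (c ^ 3)⁻¹ = c * (c * (c * R * c⁻¹) * c⁻¹) * c⁻¹ := by rw [pow_succ, pow_two]; group
          _ = R⁻¹ := by rw [hcR, hcR', hcR]
      rw [← hc.eq, mul_inv_cancel_right] at e3
      have h2 : R * R = 1 := by nth_rw 2 [e3]; exact mul_inv_cancel R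
      refine P.rot_ne k1 k9 ?_
      calc R = R * R * R := by rw [h2, one_mul]
        _ = 1 := P.rot_cube k1 k9
    · exact h
  exact ⟨⟨R, P.rot_cube k1 k9, P.rot_ne k1 k9, inv, hb.1, hb.2, htri⟩⟩

end CfsgLib.LargeFischer.Prime
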