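import Cfsg.Agent.Lib.LargeFischer.Prime.Model
import Cfsg.Agent.Lib.FischerPair.M24

/-!
# Models of the centralisers of commuting pairs of transpositions of `Fi24` off the first generator

For commuting transpositions `p`, `q` of `Fi23` the elements of sign one of the presented `Fi24` centralising the
two members above them are carried into the group, in agreement with the embedding of `Fi23` on the centraliser of
the first generator.
-/

set_option autoImplicit false
set_option maxRecDepth 100000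
set_option maxHeartbeats 1000000
set_option linter.style.haveILetI false
set_option linter.unusedSectionVars false

namespace CfsgLib.LargeFischer.Prime

open CfsgLib.PresCert CfsgLib.Fi24P CfsgLib.Fi24P.ThreeT Subgroup
open CfsgLib.ThreeTransp (link)
open CfsgLib.FischerPair (common)

attribute [local irreducible] relShort Fi23P.relShort Fi23P.levels Fi23P.wordA Fi23P.baseL

/-- The elements of sign one centralising the members above `p`, `q`. -/
noncomputable def pairC (p q : Cfsg.Spor.Fi23) : Subgroup Cfsg.Spor.Fi24 :=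
  centralizer {hat p, hat q} ⊓ signHom.ker

theorem mem_pairC {p q : Cfsg.Spor.Fi23} {m : Cfsg.Spor.Fi24} :
    m ∈ pairC p q ↔ Commute m (hat p) ∧ Commute m (hat q) ∧ signHom m = 1 := by
  rw [pairC, Subgroup.mem_inf, MonoidHom.mem_ker, mem_centralizer_iff]
  constructor
  · rintro ⟨h, hs⟩
    exact ⟨(h _ (Set.mem_insert _ _)).symm, (h _ (Set.mem_insert_of_mem _ rfl)).symm, hs⟩
  · rintro ⟨h1, h2, hs⟩
    refine ⟨?_, hs⟩
    rintro w (rfl | rfl)
    exacts [h1.eq.symm, h2.eq.symm]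

theorem psi_commute_hat {u x : Cfsg.Spor.Fi23} : Commute (psi u) (hat x) ↔ Commute u x := by
  have h := hat_conj x u
  constructor
  · intro hc
    rw [hc.eq, mul_inv_cancel_right, hat_inj] at h
    exact eq_mul_inv_iff_mul_eq.1 h |>.symm
  · intro hc
    rw [hc.eq, mul_inv_cancel_right] at h
    exact eq_mul_inv_iff_mul_eq.1 h.symm |>.symm

theorem psi_mem_pairC {p q u : Cfsg.Spor.Fi23} (h1 : Commute u p) (h2 : Commute u q) : psi u ∈ pairC p q :=
  mem_pairC.2 ⟨psi_commute_hat.2 h1, psi_commute_hat.2 h2, psi_sign u⟩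

theorem hat_sign (x : Cfsg.Spor.Fi23) : signHom (hat x) = -1 := by
  rw [hat, map_mul, psi_sign, one_mul, show signHom eltL = -1 from signHom_gen 0]

/-- A model at the pair `p`, `q`. -/
structure PM {G : Type*} [Group G] {z : G} (E : Emb z) (p q : Cfsg.Spor.Fi23) where
  θ : ↥(pairC p q) →* G
  inj : Function.Injective θ
  agree : ∀ (u : Cfsg.Spor.Fi23) (h : psi u ∈ pairC p q), θ ⟨psi u, h⟩ = E.F u
  cover : ∀ r ∈ Fi23P.transp, r ≠ p → r ≠ q → Commute p r → Commute q r → ∀ g : G,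
    Commute g (E.F (p * q)) → Commute g (E.F (p * r)) → ∃ m, θ m = g

variable {G : Type*} [Group G] {z : G} {E : Emb z}

/-- The transported model. -/
theorem PM.conj {p q : Cfsg.Spor.Fi23} (P : PM E p q) (y : Cfsg.Spor.Fi23) :
    Nonempty (PM E (y * p * y⁻¹) (y * q * y⁻¹)) := by
  have hd : ∀ m : ↥(pairC (y * p * y⁻¹) (y * q * y⁻¹)), (psi y)⁻¹ * m * psi y ∈ pairC p q := fun m => by
    obtain ⟨h1, h2, hs⟩ := mem_pairC.1 m.2
    rw [← hat_conj] at h1 h2
    have c1 := (Commute.conj_iff (psi y)⁻¹).2 h1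
    have c2 := (Commute.conj_iff (psi y)⁻¹).2 h2
    simp only [inv_inv] at c1 c2
    refine mem_pairC.2 ⟨?_, ?_, by rw [map_mul, map_mul, map_inv, hs, mul_one, inv_mul_cancel]⟩
    · rwa [show (psi y)⁻¹ * (psi y * hat p * (psi y)⁻¹) * psi y = hat p by group] at c1
    · rwa [show (psi y)⁻¹ * (psi y * hat q * (psi y)⁻¹) * psi y = hat q by group] at c2
  have hu : ∀ m : ↥(pairC p q), psi y * m * (psi y)⁻¹ ∈ pairC (y * p * y⁻¹) (y * q * y⁻¹) := fun m => by
    obtain ⟨h1, h2, hs⟩ := mem_pairC.1 m.2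
    refine mem_pairC.2 ⟨?_, ?_, by rw [map_mul, map_mul, map_inv, hs, mul_one, mul_inv_cancel]⟩
    · rw [← hat_conj]; exact (Commute.conj_iff _).2 h1
    · rw [← hat_conj]; exact (Commute.conj_iff _).2 h2
  let θ' : ↥(pairC (y * p * y⁻¹) (y * q * y⁻¹)) →* G :=
    MonoidHom.mk' (fun m => E.F y * P.θ ⟨_, hd m⟩ * (E.F y)⁻¹) fun m n => by
      rw [show (⟨_, hd (m * n)⟩ : ↥(pairC p q)) = ⟨_, hd m⟩ * ⟨_, hd n⟩ from
        Subtype.ext (by simp only [Subgroup.coe_mul]; group), map_mul]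
      group
  refine ⟨⟨θ', fun m n h => ?_, fun u h => ?_, fun r hr hrp hrq cp cq g g1 g2 => ?_⟩⟩
  · have h1 := congrArg Subtype.val (P.inj (mul_left_cancel (mul_right_cancel h)))
    exact Subtype.ext (mul_left_cancel (mul_right_cancel h1))
  · show E.F y * P.θ ⟨(psi y)⁻¹ * psi u * psi y, _⟩ * (E.F y)⁻¹ = E.F u
    have e : (psi y)⁻¹ * psi u * psi y = psi (y⁻¹ * u * y) := by simp only [map_mul, map_inv]
    simp only [e]
    rw [P.agree, map_mul, map_mul, map_inv]
    group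
  · have r' : y⁻¹ * r * y ∈ Fi23P.transp := by simpa using transp_conj hr y⁻¹
    have c1 := (Commute.conj_iff (E.F y)⁻¹).2 g1
    have c2 := (Commute.conj_iff (E.F y)⁻¹).2 g2
    simp only [inv_inv] at c1 c2
    rw [show (E.F y)⁻¹ * E.F (y * p * y⁻¹ * (y * q * y⁻¹)) * E.F y = E.F (p * q) by
      simp only [map_mul, map_inv]; group] at c1
    rw [show (E.F y)⁻¹ * E.F (y * p * y⁻¹ * r) * E.F y = E.F (p * (y⁻¹ * r * y)) by
      simp only [map_mul, map_inv]; group] at c2
    have hc : ∀ {x : Cfsg.Spor.Fi23}, Commute (y * x * y⁻¹) r → Commute x (y⁻¹ * r * y) := fun {x} hx => by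
      have h := (Commute.conj_iff y⁻¹).2 hx
      simp only [inv_inv] at h
      rwa [show y⁻¹ * (y * x * y⁻¹) * y = x by group] at h
    obtain ⟨m, hm⟩ := P.cover _ r' (fun e => hrp (by rw [← e]; group)) (fun e => hrq (by rw [← e]; group))
      (hc cp) (hc cq) _ c1 c2
    refine ⟨⟨_, hu m⟩, ?_⟩
    show E.F y * P.θ ⟨(psi y)⁻¹ * (psi y * m * (psi y)⁻¹) * psi y, _⟩ * (E.F y)⁻¹ = g
    have e : (psi y)⁻¹ * (psi y * (m : Cfsg.Spor.Fi24) * (psi y)⁻¹) * psi y = m := by group
    simp only [e, Subtype.coe_eta, hm]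
    group

/-- A model exists at every commuting pair of transpositions. -/
theorem exists_pm (E : Emb z) {p q : Cfsg.Spor.Fi23} (hp : p ∈ Fi23P.transp) (hq : q ∈ Fi23P.transp)
    (hne : p ≠ q) (hc : Commute p q) : Nonempty (PM E p q) := by
  classical
  haveI := Fi23P.card_fi.1
  haveI := ThreeT.finite24
  obtain ⟨s, hs, hsl, hsp⟩ := CfsgLib.M24.swapper setup24 (a := eltL) (b := hat p) (f := hat q)
    mem_conjugatesOf_self (hat_link hp) (hat_link hq) (hat_link_hat hq hne hc)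
  have hsq : Commute s (hat q) := CfsgLib.ThreeTransp.Factor.linkSub_commute hs
  have hsl' : s⁻¹ * hat p * s = eltL := by rw [← hsl]; group
  have hsp' : s⁻¹ * eltL * s = hat p := by rw [← hsp]; group
  have hsq' : s⁻¹ * hat q * s = hat q := by rw [mul_assoc, ← hsq.eq, inv_mul_cancel_left]
  have down : ∀ m : Cfsg.Spor.Fi24, Commute m (hat p) → Commute m (hat q) → signHom m = 1 →
      ∃ u, psi u = s⁻¹ * m * s ∧ Commute u q := fun m h1 h2 h3 => by
    have c1 := (Commute.conj_iff s⁻¹).2 h1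
    have c2 := (Commute.conj_iff s⁻¹).2 h2
    rw [inv_inv, hsl'] at c1
    rw [inv_inv, hsq'] at c2
    obtain ⟨u, hu⟩ := exists_psi (by rw [map_mul, map_mul, map_inv, h3, mul_one, inv_mul_cancel]) c1
    exact ⟨u, hu, psi_commute_hat.1 (hu ▸ c2)⟩
  set N := centralizer ({p, q} : Set Cfsg.Spor.Fi23)
  have memN : ∀ {u : Cfsg.Spor.Fi23}, u ∈ N ↔ Commute u p ∧ Commute u q := fun {u} =>
    ⟨fun h => ⟨(mem_centralizer_iff.1 h p (Set.mem_insert _ _)).symm,
        (mem_centralizer_iff.1 h q (Set.mem_insert_of_mem _ rfl)).symm⟩,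
      fun h => mem_centralizer_iff.2 (by rintro w (rfl | rfl); exacts [h.1.eq.symm, h.2.eq.symm])⟩
  have hN : ∀ u : ↥N, ∃ v : ↥N, psi (v : Cfsg.Spor.Fi23) = s * psi (u : Cfsg.Spor.Fi23) * s⁻¹ := fun u => by
    obtain ⟨hu1, hu2⟩ := memN.1 u.2
    have c1 : Commute (s * psi (u : Cfsg.Spor.Fi23) * s⁻¹) (s * hat p * s⁻¹) :=
      (Commute.conj_iff s).2 (psi_commute_hat.2 hu1)
    have c2 : Commute (s * psi (u : Cfsg.Spor.Fi23) * s⁻¹) (s * hat q * s⁻¹) :=
      (Commute.conj_iff s).2 (psi_commute_hat.2 hu2)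
    have c3 : Commute (s * psi (u : Cfsg.Spor.Fi23) * s⁻¹) (s * eltL * s⁻¹) :=
      (Commute.conj_iff s).2 (psi_comm _).symm
    rw [hsp] at c1
    rw [hsq.eq, mul_inv_cancel_right] at c2
    rw [hsl] at c3
    obtain ⟨v, hv⟩ := exists_psi (by rw [map_mul, map_mul, map_inv, psi_sign, mul_one, mul_inv_cancel]) c1
    exact ⟨⟨v, memN.2 ⟨psi_commute_hat.1 (hv ▸ c3), psi_commute_hat.1 (hv ▸ c2)⟩⟩, hv⟩
  choose α hα using hN
  let αh : ↥N →* ↥N := MonoidHom.mk' α fun u v => Subtype.ext (psi_injective (by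
    rw [hα, Subgroup.coe_mul, Subgroup.coe_mul, map_mul, map_mul, hα, hα]
    group))
  have hαi : Function.Injective αh := fun u v h => by
    have h1 := congrArg (fun x : ↥N => psi (x : Cfsg.Spor.Fi23)) h
    simp only [αh, MonoidHom.mk'_apply, hα] at h1
    exact Subtype.ext (psi_injective (mul_left_cancel (mul_right_cancel h1)))
  obtain ⟨w, hw⟩ := E.extend hp hq hne hc (MulEquiv.ofBijective αh (Finite.injective_iff_bijective.1 hαi))
  have hdn : ∀ m : ↥(pairC p q), ∃ u, psi u = s⁻¹ * m * s ∧ Commute u q := fun m =>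
    down m (mem_pairC.1 m.2).1 (mem_pairC.1 m.2).2.1 (mem_pairC.1 m.2).2.2
  choose d hd hdq using hdn
  let θ : ↥(pairC p q) →* G := MonoidHom.mk' (fun m => w * E.F (d m) * w⁻¹) fun m n => by
    have e : d (m * n) = d m * d n := psi_injective (by
      rw [map_mul, hd, hd, hd, Subgroup.coe_mul]; group)
    rw [e, map_mul]
    group
  refine ⟨⟨θ, fun m n h => ?_, fun u h => ?_, fun r hr hrp hrq cp cq g g1 g2 => ?_⟩⟩
  · have h1 : d m = d n := E.inj (mul_left_cancel (mul_right_cancel h))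
    have h2 := congrArg psi h1
    rw [hd, hd] at h2
    exact Subtype.ext (mul_left_cancel (mul_right_cancel h2))
  · obtain ⟨h1, h2, -⟩ := mem_pairC.1 h
    set u₀ := d ⟨psi u, h⟩
    have c3 : Commute u₀ p := by
      refine psi_commute_hat.1 ?_
      rw [hd, ← hsp']
      simpa using (Commute.conj_iff s⁻¹).2 (show Commute (psi u) eltL from (psi_comm u).symm)
    have hu₀ : u₀ ∈ N := memN.2 ⟨c3, hdq _⟩
    have e : ((α ⟨u₀, hu₀⟩ : ↥N) : Cfsg.Spor.Fi23) = u := psi_injective (by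
      rw [hα, hd]; group)
    have h := hw ⟨u₀, hu₀⟩
    show w * E.F u₀ * w⁻¹ = E.F u
    rw [← e]
    exact h
  · have r' : s⁻¹ * hat r * s ∈ link transp24 eltL := by
      have hl := CfsgLib.ThreeTransp.link_conj tt24 s⁻¹ (hat_link_hat hr hrp.symm cp)
      rwa [inv_inv, hsl'] at hl
    obtain ⟨r₀, hr₀, er₀⟩ := link_hat r'
    have hN' : ∀ {u : Cfsg.Spor.Fi23} (h1 : Commute u p) (h2 : Commute u q) (v : Cfsg.Spor.Fi23),
        psi v = s⁻¹ * psi u * s → w * E.F v * w⁻¹ = E.F u := by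
      intro u h1 h2 v hv
      have hv' : v ∈ N := memN.2 ⟨psi_commute_hat.1 (by
        rw [hv, ← hsp']
        simpa using (Commute.conj_iff s⁻¹).2 (show Commute (psi u) eltL from (psi_comm u).symm)),
        psi_commute_hat.1 (by
        rw [hv, ← hsq']
        simpa using (Commute.conj_iff s⁻¹).2 (psi_commute_hat.2 h2))⟩
      have e : ((α ⟨v, hv'⟩ : ↥N) : Cfsg.Spor.Fi23) = u := psi_injective (by rw [hα, hv]; group)
      have h := hw ⟨v, hv'⟩
      rw [← e]
      exact h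
    have eq1 : w * E.F q * w⁻¹ = E.F (p * q) := hN' ((Commute.refl p).mul_left hc.symm)
      (hc.mul_left (Commute.refl q)) q (by
        rw [← hat_mul, show s⁻¹ * (hat p * hat q) * s = (s⁻¹ * hat p * s) * (s⁻¹ * hat q * s) by group,
          hsl', hsq', hat]
        rw [← mul_assoc, psi_comm, mul_assoc, eltL_sq, mul_one])
    have eq2 : w * E.F r₀ * w⁻¹ = E.F (p * r) := hN' ((Commute.refl p).mul_left cp.symm)
      (hc.mul_left cq.symm) r₀ (by
        rw [← hat_mul, show s⁻¹ * (hat p * hat r) * s = (s⁻¹ * hat p * s) * (s⁻¹ * hat r * s) by group,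
          hsl', ← er₀, hat]
        rw [← mul_assoc, psi_comm, mul_assoc, eltL_sq, mul_one])
    have c1 := (Commute.conj_iff w⁻¹).2 g1
    have c2 := (Commute.conj_iff w⁻¹).2 g2
    rw [inv_inv, ← eq1, show w⁻¹ * (w * E.F q * w⁻¹) * w = E.F q by group] at c1
    rw [inv_inv, ← eq2, show w⁻¹ * (w * E.F r₀ * w⁻¹) * w = E.F r₀ by group] at c2
    have hqr : Commute q r₀ := by
      refine hat_commute.1 ?_
      rw [er₀, ← hsq']
      simpa using (Commute.conj_iff s⁻¹).2 (hat_commute.2 cq)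
    have hqr' : q ≠ r₀ := fun e => hrq (hat_inj.1 (by
      rw [← e] at er₀
      calc hat r = s * (s⁻¹ * hat r * s) * s⁻¹ := by group
        _ = hat q := by rw [← er₀, hsq.eq, mul_inv_cancel_right]))
    obtain ⟨u, hu⟩ := E.pair hq hr₀ hqr' hqr _ c1 c2
    have huq : Commute u q := E.inj (by rw [map_mul, map_mul, hu]; exact c1.eq)
    have hm : s * psi u * s⁻¹ ∈ pairC p q := by
      refine mem_pairC.2 ⟨?_, ?_, by rw [map_mul, map_mul, map_inv, psi_sign, mul_one, mul_inv_cancel]⟩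
      · rw [← hsl]; exact (Commute.conj_iff s).2 (psi_comm u).symm
      · have := (Commute.conj_iff s).2 (psi_commute_hat.2 huq)
        rwa [hsq.eq, mul_inv_cancel_right] at this
    refine ⟨⟨_, hm⟩, ?_⟩
    show w * E.F (d ⟨_, hm⟩) * w⁻¹ = g
    rw [show d ⟨_, hm⟩ = u from psi_injective (by rw [hd]; group), hu]
    group

end CfsgLib.LargeFischer.Prime
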