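import Cfsg.Agent.Lib.Fi22P.TypeTwo
import Cfsg.Agent.Lib.Fi22P.Mult
import Cfsg.Agent.Lib.Fi24P.ThreeT.Types
import Cfsg.Agent.Lib.Fi23P.MultLift

/-!
# The centraliser of the seventh generator of `Fi23` as a perfect double cover of `Fi22`
-/

set_option autoImplicit false
set_option maxRecDepth 100000
set_option linter.style.haveILetI false

namespace CfsgLib.LargeFischer.Prime

open Subgroup CfsgLib.PresCert
open CfsgLib.ThreeTransp (link)

attribute [local irreducible] Fi23P.relShort Fi23P.levels Fi23P.wordA Fi23P.baseL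

theorem gen_transp {i : ℕ} (hi : i < 10) : Fi23P.fiGen i ∈ Fi23P.transp := by
  obtain ⟨c, hc⟩ := Fi23P.gen_conj i hi
  exact isConj_iff.2 ⟨c, hc.symm⟩

theorem gen_ne_one {i : ℕ} (hi : i < 10) : Fi23P.fiGen i ≠ 1 := by
  obtain ⟨c, hc⟩ := Fi23P.gen_conj i hi
  intro h
  rw [hc, mul_inv_eq_one, mul_eq_left] at h
  exact Fi23P.t_ne_one h

theorem zero_mem : Fi23P.fiGen 0 ∈ Fi23P.subH :=
  Subgroup.subset_closure ⟨[Fi23P.mapIx 0], Fi23P.mapIx_mem 0, by
    rw [act_cons, act_nil, one_mul]; rfl⟩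

theorem seven_notMem : Fi23P.fiGen 7 ∉ Fi23P.subH := by
  intro h
  rw [Fi23P.subH_eq] at h
  have h2 := congrArg Fin.val (h ⟨0, Fi23P.zero_lt⟩ (List.mem_singleton.2 rfl))
  rw [show Fi23P.fiGen 7 = act Fi23P.fiGen [7] by rw [act_cons, act_nil, one_mul],
    Fi23P.realised.act_apply (by decide)] at h2
  have h3 : Nat.beq (Fi23P.tab.walk 0 [7]) 0 = false := by decide +kernel
  have h4 : Fi23P.tab.walk 0 [7] = 0 := h2
  rw [h4] at h3
  exact absurd h3 (by decide)

theorem seven_commute : Commute (Fi23P.fiGen 7) (Fi23P.fiGen 0) := by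
  have h : Fi23P.sameBase [7, 0] [0, 7] = true := by decide +kernel
  have e := Fi23P.eq_of_base h
  rw [act_cons, act_cons, act_nil, act_cons, act_cons, act_nil, one_mul, one_mul] at e
  exact e.symm

theorem seven_ne_zero : Fi23P.fiGen 7 ≠ Fi23P.fiGen 0 := fun h => seven_notMem (h ▸ zero_mem)

theorem noncomm22 : ∃ a b : Cfsg.Spor.Fi22, ¬ Commute a b := by
  by_contra hn
  simp only [not_exists, not_not] at hn
  have h : commutator Cfsg.Spor.Fi22 = ⊥ := by
    rw [_root_.commutator_def, Subgroup.commutator_eq_bot_iff_le_centralizer]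
    exact fun a _ => mem_centralizer_iff.2 fun b _ => hn b a
  rw [Fi22P.fi_commutator] at h
  exact Fi22P.first_ne_one ((mem_bot).1 (h ▸ mem_top (act Fi22P.fiGen [0])))

/-- The projection of the centraliser onto `Fi22`. -/
theorem exists_pi :
    ∃ π : ↥(centralizer ({Fi23P.fiGen 7} : Set Cfsg.Spor.Fi23)) →* Cfsg.Spor.Fi22,
      Function.Surjective π ∧ π.ker ≤ center _ ∧ Nat.card π.ker = 2 ∧
      (∀ m : ↥(centralizer ({Fi23P.fiGen 7} : Set Cfsg.Spor.Fi23)), (m : Cfsg.Spor.Fi23) = Fi23P.fiGen 7 → π m = 1) ∧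
      (∀ m : ↥(centralizer ({Fi23P.fiGen 7} : Set Cfsg.Spor.Fi23)), (m : Cfsg.Spor.Fi23) = Fi23P.fiGen 0 → π m = Fi22P.fA) ∧
      commutator ↥(centralizer ({Fi23P.fiGen 7} : Set Cfsg.Spor.Fi23)) = ⊤ := by
  haveI := Fi23P.card_fi.1
  haveI := Fi22P.card_fi.1
  haveI := Fi22P.simple
  haveI := Fi23P.simple
  have hq := Fi22P.TypeTwo.quasisimple_of_cover (Fi23P.transp_centralizer (gen_transp (i := 7) (by norm_num))) noncomm22
  obtain ⟨c, hc, hcT⟩ : ∃ c : Cfsg.Spor.Fi23,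
      Commute c (Fi23P.fiGen 0) ∧ c * Fi23P.eltT * c⁻¹ = Fi23P.fiGen 7 := by
    have ha := gen_transp (i := 0) (by norm_num)
    have hne : Fi23P.eltT ≠ Fi23P.fiGen 0 := by
      intro h
      have e : Fi23P.qGen 0 = 1 := by
        rw [Fi23P.qGen, QuotientGroup.mk'_apply, QuotientGroup.eq_one_iff]
        refine mem_zpowers_iff.2 ⟨1, Subtype.ext ?_⟩
        rw [zpow_one]
        exact h
      have h0 : Fi23P.psi (PresentedGroup.of Cfsg.Spor.Fi22.Gen.a) = 1 := (Fi23P.psi_gen _).trans e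
      have h1 := Fi23P.psi_bijective.1 (h0.trans (map_one _).symm)
      refine Fi22P.first_ne_one ?_
      rw [act_cons, act_nil, one_mul]
      exact h1
    obtain ⟨c, hc, hce⟩ := Fi24P.ThreeT.setup23.hyp.exists_conj_link ha
      (y := Fi23P.eltT) (y' := Fi23P.fiGen 7) ⟨mem_conjugatesOf_self, hne, (Fi23P.t_central zero_mem).symm⟩
      ⟨gen_transp (by norm_num), seven_ne_zero, seven_commute.symm⟩
    exact ⟨c, ThreeTransp.Factor.linkSub_commute hc, hce⟩
  have hmem : ∀ m : ↥(centralizer ({Fi23P.fiGen 7} : Set Cfsg.Spor.Fi23)),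
      c⁻¹ * (m : Cfsg.Spor.Fi23) * c ∈ Fi23P.subH := fun m => by
    rw [← Fi23P.centralizer_t, mem_centralizer_singleton_iff]
    have h := mem_centralizer_singleton_iff.1 m.2
    conv at h => simp only [← hcT]
    calc c⁻¹ * (m : Cfsg.Spor.Fi23) * c * Fi23P.eltT
        = c⁻¹ * ((m : Cfsg.Spor.Fi23) * (c * Fi23P.eltT * c⁻¹)) * c := by group
      _ = c⁻¹ * ((c * Fi23P.eltT * c⁻¹) * (m : Cfsg.Spor.Fi23)) * c := by rw [h]
      _ = _ := by group
  let f : ↥(centralizer ({Fi23P.fiGen 7} : Set Cfsg.Spor.Fi23)) →* ↥Fi23P.subH :=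
    MonoidHom.mk' (fun m => ⟨_, hmem m⟩) fun m n => Subtype.ext (by
      show c⁻¹ * ((m : Cfsg.Spor.Fi23) * n) * c = c⁻¹ * m * c * (c⁻¹ * n * c)
      group)
  have hfinj : Function.Injective f := fun m n h => Subtype.ext (by
    have h' : c⁻¹ * (m : Cfsg.Spor.Fi23) * c = c⁻¹ * n * c := congrArg Subtype.val h
    simpa using h')
  have hfsur : Function.Surjective f := fun s => ⟨⟨c * s * c⁻¹, mem_centralizer_singleton_iff.2 (by
      rw [← hcT]
      calc c * (s : Cfsg.Spor.Fi23) * c⁻¹ * (c * Fi23P.eltT * c⁻¹)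
          = c * ((s : Cfsg.Spor.Fi23) * Fi23P.eltT) * c⁻¹ := by group
        _ = c * (Fi23P.eltT * s) * c⁻¹ := by rw [Fi23P.t_central s.2]
        _ = _ := by group)⟩, Subtype.ext (by
      show c⁻¹ * (c * (s : Cfsg.Spor.Fi23) * c⁻¹) * c = s
      group)⟩
  let π : ↥(centralizer ({Fi23P.fiGen 7} : Set Cfsg.Spor.Fi23)) →* Cfsg.Spor.Fi22 :=
    Fi23P.quotIso.toMonoidHom.comp ((QuotientGroup.mk' (zpowers Fi23P.tH)).comp f)
  have hker : ∀ m, π m = 1 ↔ f m ∈ zpowers Fi23P.tH := fun m => by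
    rw [← QuotientGroup.eq_one_iff]
    exact map_eq_one_iff Fi23P.quotIso Fi23P.quotIso.injective
  refine ⟨π, Fi23P.quotIso.surjective.comp ((QuotientGroup.mk'_surjective _).comp hfsur), ?_, ?_, ?_, ?_,
    hq.1.commutator_eq_top⟩
  · intro m hm
    obtain ⟨j, hj⟩ := mem_zpowers_iff.1 ((hker m).1 hm)
    refine mem_center_iff.2 fun g => hfinj ?_
    rw [map_mul, map_mul, ← hj]
    exact mem_center_iff.1 (zpow_mem Fi23P.tH_center j) _
  · rw [show π.ker = (zpowers Fi23P.tH).comap f from Subgroup.ext hker]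
    rw [← Subgroup.card_map_of_injective hfinj, Subgroup.map_comap_eq_self_of_surjective hfsur,
      Nat.card_zpowers, Fi23P.order_tH]
  · intro m hm
    refine (hker m).2 (mem_zpowers_iff.2 ⟨1, Subtype.ext ?_⟩)
    rw [zpow_one]
    show Fi23P.eltT = c⁻¹ * (m : Cfsg.Spor.Fi23) * c
    rw [hm, ← hcT]
    group
  · intro m hm
    have e1 : QuotientGroup.mk' (zpowers Fi23P.tH) (f m) = Fi23P.qGen 0 := by
      rw [Fi23P.qGen]
      refine congrArg _ (Subtype.ext ?_)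
      show c⁻¹ * (m : Cfsg.Spor.Fi23) * c = Fi23P.fiGen (Fi23P.mapIx 0)
      rw [hm, mul_assoc, ← hc.eq, inv_mul_cancel_left]
      rfl
    show Fi23P.quotIso (QuotientGroup.mk' (zpowers Fi23P.tH) (f m)) = _
    rw [e1, Fi22P.fA, act_cons, act_nil, one_mul]
    refine (MulEquiv.eq_symm_apply _).1 ?_
    exact (Fi23P.psi_gen Cfsg.Spor.Fi22.Gen.a).symm

end CfsgLib.LargeFischer.Prime
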