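import Cfsg.Agent.Lib.LargeFischer.Prime.Pairs

/-!
# The image of the product of the first two generators in the models at the pairs

Models at two pairs inside one commuting triple give this product the same image up to inversion.
-/

set_option autoImplicit false
set_option maxRecDepth 100000
set_option maxHeartbeats 1000000
set_option linter.style.haveILetI false
set_option linter.unusedSectionVars false

namespace CfsgLib.LargeFischer.Prime

open CfsgLib.PresCert CfsgLib.Fi24P CfsgLib.Fi24P.ThreeT Subgroup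
open CfsgLib.ThreeTransp (link)
open CfsgLib.FischerPair (common)

attribute [local irreducible] relShort Fi23P.relShort Fi23P.levels Fi23P.wordA Fi23P.baseL

/-- A product of two braided involutions has order dividing three. -/
theorem cube_of_braid {M : Type*} [Group M] {a b : M} (ha : a * a = 1) (hb : b * b = 1)
    (h : a * b * a = b * a * b) : a * b * (a * b) * (a * b) = 1 := by
  have hb' : ∀ x : M, b * (b * x) = x := fun x => by rw [← mul_assoc, hb, one_mul]
  have ha' : ∀ x : M, a * (a * x) = x := fun x => by rw [← mul_assoc, ha, one_mul]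
  calc a * b * (a * b) * (a * b) = a * b * a * (b * a * b) := by simp only [mul_assoc]
    _ = b * a * b * (b * a * b) := by rw [h]
    _ = 1 := by simp only [mul_assoc, hb', ha', hb]

/-- The product of the first two generators. -/
noncomputable def kl : Cfsg.Spor.Fi24 := ftGen 1 * eltL

theorem k_sq : ftGen 1 * ftGen 1 = 1 := ftGen_sq 1 (by norm_num)

theorem kl_braid : eltL * ftGen 1 * eltL = ftGen 1 * eltL * ftGen 1 := gen_braid (g := 0) (h := 1) (by decide)

theorem k_inv : (ftGen 1)⁻¹ = ftGen 1 := inv_eq_of_mul_eq_one_right k_sq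

theorem l_inv : eltL⁻¹ = eltL := inv_eq_of_mul_eq_one_right eltL_sq

theorem kl_inv : kl⁻¹ = eltL * ftGen 1 := by rw [kl, mul_inv_rev, k_inv, l_inv]

theorem ll_cancel (m : Cfsg.Spor.Fi24) : eltL * (eltL * m) = m := by rw [← mul_assoc, eltL_sq, one_mul]

theorem kk_cancel (m : Cfsg.Spor.Fi24) : ftGen 1 * (ftGen 1 * m) = m := by rw [← mul_assoc, k_sq, one_mul]

theorem kl_cube : kl * kl * kl = 1 := cube_of_braid k_sq eltL_sq kl_braid.symm

theorem k_ne_l : ftGen 1 ≠ eltL := fun e => k_not_commute (e ▸ Commute.refl eltL)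

theorem kl_ne : kl ≠ 1 := fun e => k_ne_l (by
  calc ftGen 1 = kl * eltL := by rw [kl, mul_assoc, eltL_sq, mul_one]
    _ = eltL := by rw [e, one_mul])

theorem kl_sign : signHom kl = 1 := by
  rw [kl, map_mul, signHom_gen, show signHom eltL = -1 from signHom_gen 0]
  decide

/-- The member above `x` commutes with the second generator. -/
abbrev Perp (x : Cfsg.Spor.Fi23) : Prop := Commute (ftGen 1) (hat x)

theorem perp_node {g : ℕ} (h1 : 1 ≤ g) (hg : g < 10) : Perp (Fi23P.fiGen g) := by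
  show Commute (ftGen 1) (hat (Fi23P.fiGen g))
  rw [hat_gen hg]
  exact gen_comm (g := 1) (h := g + 2) (by interval_cases g <;> decide)

theorem kl_mem {p q : Cfsg.Spor.Fi23} (hp : Perp p) (hq : Perp q) : kl ∈ pairC p q :=
  mem_pairC.2 ⟨hp.mul_left (hat_commute_eltL p).symm, hq.mul_left (hat_commute_eltL q).symm, kl_sign⟩

theorem psi_eq (x : Cfsg.Spor.Fi23) : hat x * eltL = psi x := by rw [hat, mul_assoc, eltL_sq, mul_one]

theorem eltL_link {x : Cfsg.Spor.Fi23} (hx : x ∈ Fi23P.transp) : eltL ∈ link transp24 (hat x) :=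
  ⟨mem_conjugatesOf_self, (hat_link hx).2.1.symm, hat_commute_eltL x⟩

theorem k_link {x : Cfsg.Spor.Fi23} (hx : Perp x) : ftGen 1 ∈ link transp24 (hat x) :=
  ⟨gen_mem (by norm_num), fun e => k_not_commute (by rw [e]; exact (hat_commute_eltL x).symm), hx.symm⟩

variable {G : Type*} [Group G] {z : G} {E : Emb z}

namespace PM

variable {p q : Cfsg.Spor.Fi23} (P : PM E p q)

theorem commute_of {a b : ↥(pairC p q)} (h : Commute (P.θ a) (P.θ b)) :
    Commute (a : Cfsg.Spor.Fi24) (b : Cfsg.Spor.Fi24) :=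
  congrArg Subtype.val (P.inj (a₁ := a * b) (a₂ := b * a) (by rw [map_mul, map_mul]; exact h.eq))

theorem commute_map {a b : ↥(pairC p q)} (h : Commute (a : Cfsg.Spor.Fi24) (b : Cfsg.Spor.Fi24)) :
    Commute (P.θ a) (P.θ b) :=
  Commute.map (Subtype.ext h.eq) P.θ

variable (hp : Perp p) (hq : Perp q)

/-- The image of the product. -/
noncomputable def rot : G := P.θ ⟨kl, kl_mem hp hq⟩

theorem rot_cube : P.rot hp hq * P.rot hp hq * P.rot hp hq = 1 := by
  rw [rot, ← map_mul, ← map_mul, ← map_one P.θ]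
  exact congrArg P.θ (Subtype.ext kl_cube)

theorem rot_ne : P.rot hp hq ≠ 1 := fun h => by
  rw [rot, ← map_one P.θ] at h
  exact kl_ne (congrArg Subtype.val (P.inj h))

theorem rot_inv {u : Cfsg.Spor.Fi23} (hu1 : Commute u p) (hu2 : Commute u q) (hu : Perp u) :
    E.F u * P.rot hp hq * (E.F u)⁻¹ = (P.rot hp hq)⁻¹ := by
  rw [← P.agree u (psi_mem_pairC hu1 hu2), rot, ← map_inv, ← map_inv, ← map_mul, ← map_mul]
  refine congrArg P.θ (Subtype.ext ?_)
  show psi u * kl * (psi u)⁻¹ = kl⁻¹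
  rw [kl_inv, ← psi_eq, mul_inv_rev, l_inv, kl]
  calc hat u * eltL * (ftGen 1 * eltL) * (eltL * (hat u)⁻¹) = hat u * (eltL * ftGen 1) * (hat u)⁻¹ := by
        simp only [mul_assoc, ll_cancel]
    _ = eltL * ftGen 1 := by
      rw [((hat_commute_eltL u).mul_right hu.symm).eq, mul_inv_cancel_right]

theorem rot_braid {u : Cfsg.Spor.Fi23} (hu : u ∈ Fi23P.transp) (hu1 : Commute u p) (hu2 : Commute u q)
    (hb : ftGen 1 * hat u * ftGen 1 = hat u * ftGen 1 * hat u) :
    P.rot hp hq * E.F u * (P.rot hp hq * E.F u) * (P.rot hp hq * E.F u) = 1 ∧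
      (P.rot hp hq)⁻¹ * E.F u * ((P.rot hp hq)⁻¹ * E.F u) * ((P.rot hp hq)⁻¹ * E.F u) = 1 := by
  have hc := cube_of_braid k_sq (hat_sq hu) hb
  refine ⟨?_, ?_⟩ <;>
    rw [← P.agree u (psi_mem_pairC hu1 hu2), rot] <;>
    simp only [← map_inv, ← map_mul] <;>
    rw [← map_one P.θ] <;>
    refine congrArg P.θ (Subtype.ext ?_)
  · show kl * psi u * (kl * psi u) * (kl * psi u) = 1
    rw [show kl * psi u = ftGen 1 * hat u by
      rw [← psi_eq, (hat_commute_eltL u).eq, kl]; simp only [mul_assoc, ll_cancel]]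
    exact hc
  · show kl⁻¹ * psi u * (kl⁻¹ * psi u) * (kl⁻¹ * psi u) = 1
    rw [show kl⁻¹ * psi u = eltL * (ftGen 1 * hat u) * eltL by
      rw [← psi_eq, kl_inv]; simp only [mul_assoc]]
    calc _ = eltL * (ftGen 1 * hat u * (ftGen 1 * hat u) * (ftGen 1 * hat u)) * eltL := by
          simp only [mul_assoc, ll_cancel]
      _ = 1 := by rw [hc, mul_one, eltL_sq]

end PM

/-- Models at two pairs of one triple agree on the product up to inversion. -/
theorem PM.step {p q r p' q' : Cfsg.Spor.Fi23} (P : PM E p q) (P' : PM E p' q')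
    (hpT : p ∈ Fi23P.transp) (hqT : q ∈ Fi23P.transp) (hrT : r ∈ Fi23P.transp)
    (hpq : p ≠ q) (hrp : r ≠ p) (hrq : r ≠ q) (cpq : Commute p q) (cpr : Commute p r) (cqr : Commute q r)
    (kp : Perp p) (kq : Perp q) (kr : Perp r) (hp' : p' = p ∨ p' = q ∨ p' = r) (hq' : q' = p ∨ q' = q ∨ q' = r)
    (kp' : Perp p') (kq' : Perp q') :
    P'.rot kp' kq' = P.rot kp kq ∨ P'.rot kp' kq' = (P.rot kp kq)⁻¹ := by
  haveI := ThreeT.finite24
  have mem' : ∀ {m : Cfsg.Spor.Fi24}, Commute m (hat p) → Commute m (hat q) → Commute m (hat r) →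
      signHom m = 1 → m ∈ pairC p' q' := fun h1 h2 h3 hs => by
    refine mem_pairC.2 ⟨?_, ?_, hs⟩
    · rcases hp' with rfl | rfl | rfl <;> assumption
    · rcases hq' with rfl | rfl | rfl <;> assumption
  have hcl : ∀ {x : Cfsg.Spor.Fi23}, Commute eltL (hat x) := fun {x} => (hat_commute_eltL x).symm
  have mc : eltL * ftGen 1 ∈ pairC p' q' := mem' (hcl.mul_left kp) (hcl.mul_left kq) (hcl.mul_left kr)
    (by rw [map_mul, show signHom eltL = -1 from signHom_gen 0, signHom_gen]; decide)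
  have xp : Commute (ftGen 1 * hat r) (hat p) := kp.mul_left (hat_commute.2 cpr.symm)
  have xq : Commute (ftGen 1 * hat r) (hat q) := kq.mul_left (hat_commute.2 cqr.symm)
  have xr : Commute (ftGen 1 * hat r) (hat r) := kr.mul_left (Commute.refl _)
  have mx : ftGen 1 * hat r ∈ pairC p' q' := mem' xp xq xr (by
    rw [map_mul, signHom_gen, hat_sign]; decide)
  have mr' : psi r ∈ pairC p' q' := mem' (psi_commute_hat.2 cpr.symm) (psi_commute_hat.2 cqr.symm)
    (psi_commute_hat.2 (Commute.refl r)) (psi_sign r)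
  have mr : psi r ∈ pairC p q := psi_mem_pairC cpr.symm cqr.symm
  have mm : ∀ {y : Cfsg.Spor.Fi23}, Commute y p → Commute y q → Commute y r →
      Commute (eltL * ftGen 1) (psi y) → Commute (P'.θ ⟨_, mc⟩) (E.F y) := fun h1 h2 h3 h4 => by
    rw [← P'.agree _ (mem' (psi_commute_hat.2 h1) (psi_commute_hat.2 h2) (psi_commute_hat.2 h3) (psi_sign _))]
    exact P'.commute_map h4
  have g1 : Commute (P'.θ ⟨_, mc⟩) (E.F (p * q)) :=
    mm ((Commute.refl p).mul_left cpq.symm) (cpq.mul_left (Commute.refl q)) (cpr.mul_left cqr) (by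
      rw [← hat_mul]; exact (hcl.mul_left kp).mul_right (hcl.mul_left kq))
  have g2 : Commute (P'.θ ⟨_, mc⟩) (E.F (p * r)) :=
    mm ((Commute.refl p).mul_left cpr.symm) (cpq.mul_left cqr.symm) (cpr.mul_left (Commute.refl r)) (by
      rw [← hat_mul]; exact (hcl.mul_left kp).mul_right (hcl.mul_left kr))
  obtain ⟨c', hc'⟩ := P.cover r hrT hrp hrq cpr cqr _ g1 g2
  obtain ⟨c'p, c'q, -⟩ := mem_pairC.1 c'.2
  have mpr : psi (p * r) ∈ pairC p q := psi_mem_pairC ((Commute.refl p).mul_left cpr.symm) (cpq.mul_left cqr.symm)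
  have c'r : Commute (c' : Cfsg.Spor.Fi24) (hat r) := by
    have h := P.commute_of (a := c') (b := ⟨_, mpr⟩) (by rw [P.agree, hc']; exact g2)
    have h' := c'p.mul_right h
    change Commute (c' : Cfsg.Spor.Fi24) (hat p * psi (p * r)) at h'
    rwa [← hat_mul, ← mul_assoc, hat_sq hpT, one_mul] at h'
  set v := (c' : Cfsg.Spor.Fi24) * eltL * (c' : Cfsg.Spor.Fi24)⁻¹ with hv
  have vlink : ∀ {x : Cfsg.Spor.Fi23}, x ∈ Fi23P.transp → Commute (c' : Cfsg.Spor.Fi24) (hat x) →
      v ∈ link transp24 (hat x) := fun {x} hx hc => by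
    have h := CfsgLib.ThreeTransp.link_conj tt24 (c' : Cfsg.Spor.Fi24) (eltL_link hx)
    rwa [hc.eq, mul_inv_cancel_right] at h
  have vp := vlink hpT c'p
  have vq := vlink hqT c'q
  have vr := vlink hrT c'r
  -- the element `k r` in the second model
  have lr : eltL * hat r = psi r := by rw [← (hat_commute_eltL r).eq, psi_eq]
  have ex : ftGen 1 * hat r = eltL * ftGen 1 * psi r * (eltL * ftGen 1)⁻¹ := by
    rw [eq_mul_inv_iff_mul_eq, ← lr]
    calc ftGen 1 * hat r * (eltL * ftGen 1) = ftGen 1 * (hat r * (eltL * ftGen 1)) := mul_assoc _ _ _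
      _ = ftGen 1 * (eltL * ftGen 1) * hat r := by
        rw [((hat_commute_eltL r).mul_right kr.symm).eq, ← mul_assoc]
      _ = eltL * ftGen 1 * eltL * hat r := by rw [← mul_assoc, ← kl_braid]
      _ = _ := by simp only [mul_assoc]
  have mv : v * hat r ∈ pairC p q := mem_pairC.2 ⟨vp.2.2.symm.mul_left (hat_commute.2 cpr.symm),
    vq.2.2.symm.mul_left (hat_commute.2 cqr.symm), by
      rw [map_mul, hv, map_mul, map_mul, map_inv, mul_inv_cancel_comm, hat_sign,
        show signHom eltL = -1 from signHom_gen 0]; decide⟩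
  have key : P'.θ ⟨_, mx⟩ = P.θ ⟨_, mv⟩ := by
    rw [show (⟨_, mx⟩ : ↥(pairC p' q')) = ⟨_, mc⟩ * ⟨_, mr'⟩ * ⟨_, mc⟩⁻¹ from Subtype.ext ex,
      map_mul, map_mul, map_inv, ← hc', P'.agree r mr', ← P.agree r mr, ← map_inv, ← map_mul, ← map_mul]
    refine congrArg P.θ (Subtype.ext ?_)
    show (c' : Cfsg.Spor.Fi24) * psi r * (c' : Cfsg.Spor.Fi24)⁻¹ = v * hat r
    rw [← lr, hv]
    calc (c' : Cfsg.Spor.Fi24) * (eltL * hat r) * (c' : Cfsg.Spor.Fi24)⁻¹
        = (c' : Cfsg.Spor.Fi24) * eltL * (hat r * (c' : Cfsg.Spor.Fi24)⁻¹) := by simp only [mul_assoc]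
      _ = _ := by rw [c'r.inv_left.eq.symm, ← mul_assoc]
  have hkl : P'.rot kp' kq' = P'.θ ⟨_, mx⟩ * (E.F r)⁻¹ := by
    rw [← P'.agree r mr', ← map_inv, ← map_mul]
    refine congrArg P'.θ (Subtype.ext ?_)
    show kl = ftGen 1 * hat r * (psi r)⁻¹
    rw [← lr, mul_inv_rev, l_inv, kl, ← mul_assoc, mul_inv_cancel_right]
  have hall : ∀ x ∈ link transp24 (hat p) ∩ link transp24 (hat q) ∩ link transp24 (hat r),
      x ∈ common transp24 eltL (ftGen 1) → Commute v x := by
    rintro x ⟨⟨hxp, hxq⟩, hxr⟩ ⟨hxl, hxk⟩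
    obtain ⟨y, hy, rfl⟩ := link_hat hxl
    have yp := hat_commute.1 hxp.2.2
    have yq := hat_commute.1 hxq.2.2
    have yr := hat_commute.1 hxr.2.2
    have my' : psi (y * r) ∈ pairC p' q' := mem' (psi_commute_hat.2 (yp.symm.mul_left cpr.symm))
      (psi_commute_hat.2 (yq.symm.mul_left cqr.symm)) (psi_commute_hat.2 (yr.symm.mul_left (Commute.refl r)))
      (psi_sign _)
    have my : psi (y * r) ∈ pairC p q := psi_mem_pairC (yp.symm.mul_left cpr.symm) (yq.symm.mul_left cqr.symm)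
    have h1 : Commute (ftGen 1 * hat r) (psi (y * r)) := by
      rw [← hat_mul]
      exact (hxk.2.2.mul_right kr).mul_left (hxr.2.2.mul_right (Commute.refl _))
    have h2 := P'.commute_map (a := ⟨_, mx⟩) (b := ⟨_, my'⟩) h1
    rw [key, P'.agree _ my', ← P.agree _ my] at h2
    have h3 := P.commute_of h2
    change Commute (v * hat r) (psi (y * r)) at h3
    rw [← hat_mul] at h3
    have h4 := h3.mul_right (vr.2.2.symm.mul_left (Commute.refl (hat r)))
    rw [mul_assoc (hat y), hat_sq hrT, mul_one] at h4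
    have h5 := h4.mul_left hxr.2.2
    rwa [mul_assoc, hat_sq hrT, mul_one] at h5
  rcases CfsgLib.M24.Glue.only_triple setup24 (p := hat p) (q := hat q) (r := hat r) (l := eltL) (z := ftGen 1)
      (f := v) (hat_mem hpT) (hat_link_hat hqT hpq cpq) ⟨hat_link_hat hrT hrp.symm cpr, hat_link_hat hrT hrq.symm cqr⟩
      ⟨⟨eltL_link hpT, eltL_link hqT⟩, eltL_link hrT⟩ ⟨⟨k_link kp, k_link kq⟩, k_link kr⟩ ⟨⟨vp, vq⟩, vr⟩
      k_not_commute hall with h | h | h
  · exfalso
    have e : P'.θ ⟨_, mx⟩ = P'.θ ⟨_, mr'⟩ := by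
      rw [key, P'.agree r mr', ← P.agree r mr]
      exact congrArg P.θ (Subtype.ext (by show v * hat r = psi r; rw [h, lr]))
    have e' : ftGen 1 * hat r = eltL * hat r := (congrArg Subtype.val (P'.inj e)).trans lr.symm
    exact k_ne_l (mul_right_cancel e')
  · left
    rw [hkl, key, ← P.agree r mr, ← map_inv, ← map_mul]
    refine congrArg P.θ (Subtype.ext ?_)
    show v * hat r * (psi r)⁻¹ = kl
    rw [h, ← lr, mul_inv_rev, l_inv, kl, ← mul_assoc, mul_inv_cancel_right]
  · right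
    rw [hkl, key, ← P.agree r mr, PM.rot, ← map_inv P.θ, ← map_inv P.θ, ← map_mul]
    refine congrArg P.θ (Subtype.ext ?_)
    show v * hat r * (psi r)⁻¹ = kl⁻¹
    rw [h, ← lr, mul_inv_rev, l_inv, kl_inv, ← mul_assoc, mul_inv_cancel_right, mul_assoc, eltL_sq, mul_one]

end CfsgLib.LargeFischer.Prime
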